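import Mathlib
import Cfsg.Prelude.Def_Blocks
import Cfsg.Agent.Lib.Helper16.Osima
import Cfsg.Agent.Lib.Helper77.MinMax
import Cfsg.Agent.Lib.Helper77.Osima
import Cfsg.Agent.Lib.Helper77.Defect
import Cfsg.Agent.Lib.Helper78.HeightZero
import Cfsg.Agent.Lib.Helper78.BlockOrth
import Cfsg.Agent.Lib.Helper80.CharKer
import Cfsg.Agent.Lib.Helper80.Orthogonality
import Cfsg.Agent.Lib.Helper79.ClassMult
import Cfsg.Agent.Lib.Helper76.PRegHeight
import Cfsg.Agent.S0188
import Cfsg.Agent.S0924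

/-!
# Blocks of a group `G = P C_G(P)` with defect group `P`

The irreducible characters of `G` are the products `λ ψ` of irreducible characters of `P` and
of `C_G(P)`; a block with defect group `P` contains exactly one character over each `λ`.
-/

set_option autoImplicit false

namespace Cfsg.Agent.Lib.Helper16

open Cfsg
open scoped ComplexConjugate

section Hom

variable {G : Type*} [Group G]

/-- the multiplication map `P × C_G(P) → G` -/
def cpHom (P : Subgroup G) : P × (Subgroup.centralizer (P : Set G)) →* G where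
  toFun z := (z.1 : G) * (z.2 : G)
  map_one' := by simp
  map_mul' := by
    rintro ⟨x, c⟩ ⟨x', c'⟩
    have h : (x' : G) * (c : G) = (c : G) * (x' : G) :=
      (Subgroup.mem_centralizer_iff.mp c.2) x' x'.2
    show ((x * x' : P) : G) * ((c * c' : Subgroup.centralizer (P : Set G)) : G) =
      (x : G) * c * (x' * c')
    rw [Subgroup.coe_mul, Subgroup.coe_mul]
    calc (x : G) * x' * (c * c') = x * (x' * c) * c' := by group
      _ = x * (c * x') * c' := by rw [h]
      _ = x * c * (x' * c') := by group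

theorem cpHom_apply (P : Subgroup G) (x : P) (c : Subgroup.centralizer (P : Set G)) :
    cpHom P (x, c) = (x : G) * (c : G) := rfl

theorem cpHom_surjective (P : Subgroup G) (hG : P ⊔ Subgroup.centralizer (P : Set G) = ⊤) :
    Function.Surjective (cpHom P) := by
  rw [← MonoidHom.range_eq_top, eq_top_iff, ← hG]
  apply sup_le
  · intro x hx
    exact ⟨(⟨x, hx⟩, 1), by simp [cpHom]⟩
  · intro c hc
    exact ⟨(1, ⟨c, hc⟩), by simp [cpHom]⟩

theorem normal_of_sup_centralizer (P : Subgroup G)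
    (hG : P ⊔ Subgroup.centralizer (P : Set G) = ⊤) : P.Normal := by
  rw [← Subgroup.normalizer_eq_top_iff, eq_top_iff, ← hG]
  exact sup_le Subgroup.le_normalizer (Subgroup.centralizer_le_normalizer _)

/-- every irreducible character of `G = P C_G(P)` is a product -/
theorem exists_prod_decomp [Finite G] (P : Subgroup G)
    (hG : P ⊔ Subgroup.centralizer (P : Set G) = ⊤) (χ : Cfsg.IrrCharacter G) :
    ∃ (lam : Cfsg.IrrCharacter P)
      (psi : Cfsg.IrrCharacter (Subgroup.centralizer (P : Set G))),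
      ∀ (x : P) (c : Subgroup.centralizer (P : Set G)),
        (χ : G → ℂ) ((x : G) * (c : G)) = (lam : P → ℂ) x * (psi : ↥(Subgroup.centralizer (P : Set G)) → ℂ) c := by
  have h1 := Cfsg.Agent.Lib.Helper80.isIrrCharacter_comp (cpHom P) (cpHom_surjective P hG) χ.2
  obtain ⟨φ, ψ, hφ, hψ, heq⟩ := (Cfsg.Agent.S0188.result _).mp h1
  exact ⟨⟨φ, hφ⟩, ⟨ψ, hψ⟩, fun x c => congrFun heq (x, c)⟩

/-- the `p`-regular elements of `G = P C_G(P)` centralize `P` -/
theorem mem_centralizer_of_pRegular [Finite G] {p : ℕ} (hp : p.Prime) (P : Subgroup G)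
    (hP : IsPGroup p P) (hG : P ⊔ Subgroup.centralizer (P : Set G) = ⊤) {y : G}
    (hy : ¬ p ∣ orderOf y) : y ∈ Subgroup.centralizer (P : Set G) := by
  obtain ⟨⟨x, c⟩, hxc⟩ := cpHom_surjective P hG y
  rw [cpHom_apply] at hxc
  have : Fact p.Prime := ⟨hp⟩
  obtain ⟨n, hn⟩ := IsPGroup.iff_card.mp hP
  have hcomm : Commute (x : G) (c : G) := (Subgroup.mem_centralizer_iff.mp c.2) x x.2
  have h1 : y ^ (p ^ n) ∈ Subgroup.centralizer (P : Set G) := by
    rw [← hxc, hcomm.mul_pow]
    have h2 : (x : G) ^ (p ^ n) = 1 := by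
      rw [← hn]
      have h3 : x ^ Nat.card P = 1 := pow_card_eq_one'
      exact_mod_cast congrArg Subtype.val h3
    rw [h2, one_mul]
    exact Subgroup.pow_mem _ c.2 _
  have hcop : (p ^ n).Coprime (orderOf y) :=
    Nat.Coprime.pow_left n ((Nat.Prime.coprime_iff_not_dvd hp).mpr hy)
  obtain ⟨j, hj⟩ := exists_pow_eq_self_of_coprime hcop
  rw [← hj]
  exact Subgroup.pow_mem _ h1 j

end Hom

section Block

variable {G : Type*} [Group G] [Fintype G] {M : Ideal Cfsg.AlgInt} {p : ℕ} [Fact p.Prime]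

/-- the characters of a block with normal defect group `P` vanish on the elements whose `p`-part
is not in `P` -/
theorem eq_zero_of_isPPart_not_mem (hM : Cfsg.IsPModular p M) (P : Subgroup G) (hPn : P.Normal)
    (B : Set (Cfsg.IrrCharacter G)) (hB : Cfsg.IsPBlock M B) (hD : Cfsg.IsDefectGroup p M B P)
    (χ : Cfsg.IrrCharacter G) (hχ : χ ∈ B) {g x : G} (hx : Cfsg.IsPPart p g x) (hxP : x ∉ P) :
    (χ : G → ℂ) g = 0 := by
  have hMp := isPrime_of_isPModular hM
  apply Cfsg.Agent.S0924.result p M hM χ g x hx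
  intro D hDD
  rw [← IsPBlock.eq_blockOf hMp hB hχ] at hDD
  obtain ⟨t, ht⟩ := Cfsg.Agent.Lib.Helper77.isDefectGroup_conj hM B hB hD hDD
  have hDP : D = P := by
    rw [ht]
    ext y
    constructor
    · rintro ⟨u, hu, rfl⟩
      exact hPn.conj_mem u hu t
    · intro hy
      refine ⟨t⁻¹ * y * t, ?_, ?_⟩
      · have := hPn.conj_mem y hy t⁻¹
        simpa using this
      · simp only [MulEquiv.coe_toMonoidHom, MulAut.conj_apply]
        group
  rw [hDP]
  exact hxP

/-- summing over `P ×` (the `p`-regular elements) a function that vanishes off the elements with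
`p`-part in `P` -/
theorem sum_pgroup_regular (P : Subgroup G) [Fintype P] (hP : IsPGroup p P)
    (hG : P ⊔ Subgroup.centralizer (P : Set G) = ⊤) (F : G → ℂ)
    (hF : ∀ g x : G, Cfsg.IsPPart p g x → x ∉ P → F g = 0) :
    ∑ x : P, ∑ y : G, (if p ∣ orderOf y then 0 else F ((x : G) * y)) = ∑ g : G, F g := by
  classical
  have hp : p.Prime := Fact.out
  have h1 : ∀ x : P, ∑ y : G, (if p ∣ orderOf y then 0 else F ((x : G) * y)) =
      ∑ g : G, (if p ∣ orderOf ((x : G)⁻¹ * g) then 0 else F g) := by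
    intro x
    apply Fintype.sum_equiv (Equiv.mulLeft (x : G))
    intro y
    simp
  rw [Finset.sum_congr rfl (fun x _ => h1 x), Finset.sum_comm]
  apply Finset.sum_congr rfl
  intro g _
  by_cases hFg : F g = 0
  · simp [hFg]
  · obtain ⟨x₀, hx₀⟩ := Cfsg.Agent.Lib.Helper78.exists_isPPart hp g
    have hx₀P : x₀ ∈ P := by
      by_contra h
      exact hFg (hF g x₀ hx₀ h)
    rw [Finset.sum_eq_single (⟨x₀, hx₀P⟩ : P)]
    · obtain ⟨y, hy, -, -, hy'⟩ := hx₀
      have h2 : x₀⁻¹ * g = y := by rw [← hy]; group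
      show (if p ∣ orderOf (x₀⁻¹ * g) then 0 else F g) = F g
      rw [h2, if_neg hy']
    · intro x _ hne
      rw [if_pos]
      by_contra hreg
      apply hne
      have hyC := mem_centralizer_of_pRegular hp P hP hG hreg
      have hxpart : Cfsg.IsPPart p g (x : G) := by
        refine ⟨(x : G)⁻¹ * g, by group, ?_, ?_, hreg⟩
        · exact (Subgroup.mem_centralizer_iff.mp hyC) x x.2
        · obtain ⟨k, hk⟩ := (IsPGroup.iff_orderOf.mp hP) x
          exact ⟨k, by rw [← hk, Subgroup.orderOf_coe]⟩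
      obtain ⟨c, hc1, hc2⟩ := Cfsg.Agent.Lib.Helper78.isPPart_zpow_eq hp hxpart hx₀ 1
        (fun h => hp.one_lt.ne' (Nat.dvd_one.mp h))
      apply Subtype.ext
      show (x : G) = x₀
      rw [← hc1, ← hc2]
    · intro h
      exact absurd (Finset.mem_univ _) h

/-- for a block with defect group `P`, the `C_G(P)`-factor of a member has degree divisible by
the `p`-part of `|G : P|` -/
theorem memLocalRing_psi_one (hM : Cfsg.IsPModular p M) (P : Subgroup G) (hP : IsPGroup p P)
    (hG : P ⊔ Subgroup.centralizer (P : Set G) = ⊤)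
    (B : Set (Cfsg.IrrCharacter G)) (hB : Cfsg.IsPBlock M B) (hD : Cfsg.IsDefectGroup p M B P)
    (χ : Cfsg.IrrCharacter G) (hχ : χ ∈ B) (lam : Cfsg.IrrCharacter P)
    (psi : Cfsg.IrrCharacter (Subgroup.centralizer (P : Set G)))
    (hspec : ∀ (x : P) (c : Subgroup.centralizer (P : Set G)),
        (χ : G → ℂ) ((x : G) * (c : G)) = (lam : P → ℂ) x * (psi : ↥(Subgroup.centralizer (P : Set G)) → ℂ) c) :
    MemLocalRing M ((psi : ↥(Subgroup.centralizer (P : Set G)) → ℂ) 1 * (Nat.card P : ℂ) / (Nat.card G : ℂ)) := by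
  classical
  have hMp := isPrime_of_isPModular hM
  have hp : p.Prime := Fact.out
  obtain ⟨g, hg, S, hS⟩ := hD
  have hreg := Cfsg.Agent.Lib.Helper78.isDefectClass_regular hM B hB g hg
  have hgC := mem_centralizer_of_pRegular hp P hP hG hreg
  have hl1 : (lam : P → ℂ) 1 ≠ 0 := irr_one_ne_zero lam
  have hp1 : (psi : ↥(Subgroup.centralizer (P : Set G)) → ℂ) 1 ≠ 0 := irr_one_ne_zero psi
  have hχg : (χ : G → ℂ) g = (lam : P → ℂ) 1 * (psi : ↥(Subgroup.centralizer (P : Set G)) → ℂ) ⟨g, hgC⟩ := by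
    have := hspec 1 ⟨g, hgC⟩
    simpa using this
  have hχ1 : (χ : G → ℂ) 1 = (lam : P → ℂ) 1 * (psi : ↥(Subgroup.centralizer (P : Set G)) → ℂ) 1 := by
    have := hspec 1 1
    simpa using this
  set idx : ℕ := (Subgroup.centralizer ({g} : Set G)).index with hidx
  set ω : ℂ := Cfsg.centralChar (χ : G → ℂ) g with hω
  have hω1 : ω = (idx : ℂ) * (psi : ↥(Subgroup.centralizer (P : Set G)) → ℂ) ⟨g, hgC⟩ / (psi : ↥(Subgroup.centralizer (P : Set G)) → ℂ) 1 := by
    rw [hω, hidx]
    unfold Cfsg.centralChar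
    rw [hχg, hχ1]
    field_simp
  have hωR : MemLocalRing M ω := memLocalRing_centralChar hMp χ g
  have hωJ : ¬ MemLocalIdeal M ω := hg.2.2 χ hχ
  have hω0 : ω ≠ 0 := fun h => hωJ (h ▸ memLocalIdeal_zero hMp)
  have hpg : (psi : ↥(Subgroup.centralizer (P : Set G)) → ℂ) ⟨g, hgC⟩ ≠ 0 := by
    intro h
    apply hω0
    rw [hω1, h, mul_zero, zero_div]
  have hcardP : Nat.card P = Nat.card (S : Subgroup (Subgroup.centralizer ({g} : Set G))) := by
    rw [hS]
    exact Subgroup.card_map_of_injective (Subgroup.subtype_injective _)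
  have hm : ¬ p ∣ (S : Subgroup (Subgroup.centralizer ({g} : Set G))).index := S.not_dvd_index
  have hcardC : Nat.card P * (S : Subgroup (Subgroup.centralizer ({g} : Set G))).index =
      Nat.card (Subgroup.centralizer ({g} : Set G)) := by
    rw [hcardP]
    exact Subgroup.card_mul_index _
  have hcardG : idx * Nat.card (Subgroup.centralizer ({g} : Set G)) = Nat.card G :=
    Subgroup.index_mul_card _
  have hG0 : (Nat.card G : ℂ) ≠ 0 := card_ne_zero
  have hprod : ((idx : ℂ) * ((Nat.card P : ℂ) *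
      ((S : Subgroup (Subgroup.centralizer ({g} : Set G))).index : ℂ))) = (Nat.card G : ℂ) := by
    rw [← hcardG, ← hcardC]
    push_cast
    ring
  have hidx0 : (idx : ℂ) ≠ 0 := by
    intro h
    rw [h, zero_mul] at hprod
    exact hG0 hprod.symm
  have hP0 : (Nat.card P : ℂ) ≠ 0 := by
    intro h
    rw [h, zero_mul, mul_zero] at hprod
    exact hG0 hprod.symm
  have hm0 : ((S : Subgroup (Subgroup.centralizer ({g} : Set G))).index : ℂ) ≠ 0 := by
    intro h
    rw [h, mul_zero, mul_zero] at hprod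
    exact hG0 hprod.symm
  have key : (psi : ↥(Subgroup.centralizer (P : Set G)) → ℂ) 1 * (Nat.card P : ℂ) / (Nat.card G : ℂ) =
      (psi : ↥(Subgroup.centralizer (P : Set G)) → ℂ) ⟨g, hgC⟩ * ω⁻¹ *
        (((S : Subgroup (Subgroup.centralizer ({g} : Set G))).index : ℕ) : ℂ)⁻¹ := by
    rw [← hprod, hω1]
    field_simp
  rw [key]
  exact memLocalRing_mul hMp (memLocalRing_mul hMp
    (memLocalRing_of_isIntegral hMp (Cfsg.Agent.Lib.Helper80.isIntegral_char_val
      (Cfsg.Agent.Lib.Helper80.isCharacter_of_isIrrCharacter psi.2) _))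
    (memLocalRing_inv hωR hωJ)) (memLocalRing_inv_natCast hM hm)

/-- a block of `G = P C_G(P)` with defect group `P` has at most one member over each irreducible
character of `P` -/
theorem eq_of_lam_eq (hM : Cfsg.IsPModular p M) (P : Subgroup G) [Fintype P]
    (hP : IsPGroup p P) (hG : P ⊔ Subgroup.centralizer (P : Set G) = ⊤)
    (B : Set (Cfsg.IrrCharacter G)) (hB : Cfsg.IsPBlock M B) (hD : Cfsg.IsDefectGroup p M B P)
    (χ χ' : Cfsg.IrrCharacter G) (hχ : χ ∈ B) (hχ' : χ' ∈ B) (lam : Cfsg.IrrCharacter P)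
    (psi psi' : Cfsg.IrrCharacter (Subgroup.centralizer (P : Set G)))
    (hspec : ∀ (x : P) (c : Subgroup.centralizer (P : Set G)),
        (χ : G → ℂ) ((x : G) * (c : G)) = (lam : P → ℂ) x * (psi : ↥(Subgroup.centralizer (P : Set G)) → ℂ) c)
    (hspec' : ∀ (x : P) (c : Subgroup.centralizer (P : Set G)),
        (χ' : G → ℂ) ((x : G) * (c : G)) = (lam : P → ℂ) x * (psi' : ↥(Subgroup.centralizer (P : Set G)) → ℂ) c) :
    χ = χ' := by
  classical
  by_contra hne
  have hMp := isPrime_of_isPModular hM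
  have hp : p.Prime := Fact.out
  have hPn := normal_of_sup_centralizer P hG
  have hl1 : (lam : P → ℂ) 1 ≠ 0 := irr_one_ne_zero lam
  obtain ⟨hd1, -, -⟩ := Cfsg.Agent.Lib.Helper79.irr_charDegree lam.2
  have hconj1 : conj ((lam : P → ℂ) 1) = (lam : P → ℂ) 1 := by
    rw [hd1]
    exact Complex.conj_natCast _
  have hG0 : (Nat.card G : ℂ) ≠ 0 := card_ne_zero
  have hP0 : (Nat.card P : ℂ) ≠ 0 := card_ne_zero
  have hχ1 : (χ : G → ℂ) 1 = (lam : P → ℂ) 1 * (psi : ↥(Subgroup.centralizer (P : Set G)) → ℂ) 1 := by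
    have := hspec 1 1
    simpa using this
  set κ : ℂ := (χ : G → ℂ) 1 * (Nat.card P : ℂ) /
    ((Nat.card G : ℂ) * ((lam : P → ℂ) 1) ^ 2) with hκ
  set α : G → ℂ := fun g => if p ∣ orderOf g then 0 else κ * conj ((χ : G → ℂ) g) with hα
  have hαR : IsRClass M α := by
    constructor
    · intro g h
      show α (h * g * h⁻¹) = α g
      simp only [hα]
      have h1 : orderOf (h * g * h⁻¹) = orderOf g :=
        orderOf_injective (MulAut.conj h).toMonoidHom (MulAut.conj h).injective g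
      rw [h1, irrCharacter_conj_eq]
    · intro g
      simp only [hα]
      split_ifs with hsing
      · exact memLocalRing_zero hMp
      · have hgC := mem_centralizer_of_pRegular hp P hP hG hsing
        have hχg : (χ : G → ℂ) g = (lam : P → ℂ) 1 * (psi : ↥(Subgroup.centralizer (P : Set G)) → ℂ) ⟨g, hgC⟩ := by
          have := hspec 1 ⟨g, hgC⟩
          simpa using this
        have h1 := memLocalRing_psi_one hM P hP hG B hB hD χ hχ lam psi hspec
        have h2 : κ * conj ((χ : G → ℂ) g) =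
            ((psi : ↥(Subgroup.centralizer (P : Set G)) → ℂ) 1 * (Nat.card P : ℂ) / (Nat.card G : ℂ)) *
              conj ((psi : ↥(Subgroup.centralizer (P : Set G)) → ℂ) ⟨g, hgC⟩) := by
          rw [hκ, hχg, hχ1, map_mul, hconj1]
          field_simp
        rw [h2]
        have h3 : IsIntegral ℤ (conj ((psi : ↥(Subgroup.centralizer (P : Set G)) → ℂ) ⟨g, hgC⟩)) := by
          rw [← Cfsg.Agent.Lib.Helper80.char_inv_eq_conj
            (Cfsg.Agent.Lib.Helper80.isCharacter_of_isIrrCharacter psi.2)]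
          exact Cfsg.Agent.Lib.Helper80.isIntegral_char_val
            (Cfsg.Agent.Lib.Helper80.isCharacter_of_isIrrCharacter psi.2) _
        exact memLocalRing_mul hMp h1 (memLocalRing_of_isIntegral hMp h3)
  have hS : ∀ (χ'' : Cfsg.IrrCharacter G)
      (psi'' : Cfsg.IrrCharacter (Subgroup.centralizer (P : Set G))), χ'' ∈ B →
      (∀ (x : P) (c : Subgroup.centralizer (P : Set G)),
        (χ'' : G → ℂ) ((x : G) * (c : G)) = (lam : P → ℂ) x * (psi'' : ↥(Subgroup.centralizer (P : Set G)) → ℂ) c) →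
      ∑ y : G, (if p ∣ orderOf y then 0 else conj ((χ : G → ℂ) y) * (χ'' : G → ℂ) y) =
        ((lam : P → ℂ) 1) ^ 2 * (Nat.card G : ℂ) / (Nat.card P : ℂ) *
          (if χ'' = χ then 1 else 0) := by
    intro χ'' psi'' hχ'' hspec''
    set F : G → ℂ := fun g => conj ((χ : G → ℂ) g) * (χ'' : G → ℂ) g with hFdef
    have hF : ∀ g x : G, Cfsg.IsPPart p g x → x ∉ P → F g = 0 := by
      intro g x hx hxP
      simp only [hFdef]
      rw [eq_zero_of_isPPart_not_mem hM P hPn B hB hD χ'' hχ'' hx hxP, mul_zero]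
    have h1 := sum_pgroup_regular P hP hG F hF
    have h2 : ∑ g : G, F g = (Nat.card G : ℂ) * (if χ'' = χ then 1 else 0) := by
      have h := Cfsg.Agent.Lib.Helper80.classInner_irr χ'' χ
      unfold Cfsg.classInner at h
      rw [← h, ← mul_assoc, mul_inv_cancel₀ hG0, one_mul]
      apply Finset.sum_congr rfl
      intro g _
      simp only [hFdef]
      ring
    have h3 : ∀ x : P, ∑ y : G, (if p ∣ orderOf y then 0 else F ((x : G) * y)) =
        ((lam : P → ℂ) x * conj ((lam : P → ℂ) x)) / ((lam : P → ℂ) 1) ^ 2 *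
          ∑ y : G, (if p ∣ orderOf y then 0 else F y) := by
      intro x
      rw [Finset.mul_sum]
      apply Finset.sum_congr rfl
      intro y _
      split_ifs with hsing
      · rw [mul_zero]
      · have hyC := mem_centralizer_of_pRegular hp P hP hG hsing
        have e1 := hspec x ⟨y, hyC⟩
        have e2 := hspec'' x ⟨y, hyC⟩
        have e3 : (χ : G → ℂ) y = (lam : P → ℂ) 1 * (psi : ↥(Subgroup.centralizer (P : Set G)) → ℂ) ⟨y, hyC⟩ := by
          have := hspec 1 ⟨y, hyC⟩
          simpa using this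
        have e4 : (χ'' : G → ℂ) y = (lam : P → ℂ) 1 * (psi'' : ↥(Subgroup.centralizer (P : Set G)) → ℂ) ⟨y, hyC⟩ := by
          have := hspec'' 1 ⟨y, hyC⟩
          simpa using this
        simp only [hFdef]
        rw [e1, e2, e3, e4, map_mul, map_mul, hconj1]
        field_simp
    rw [Finset.sum_congr rfl (fun x _ => h3 x), ← Finset.sum_mul] at h1
    have h4 : ∑ x : P, ((lam : P → ℂ) x * conj ((lam : P → ℂ) x)) / ((lam : P → ℂ) 1) ^ 2 =
        (Nat.card P : ℂ) / ((lam : P → ℂ) 1) ^ 2 := by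
      rw [← Finset.sum_div]
      congr 1
      have h := Cfsg.Agent.Lib.Helper80.classInner_irr lam lam
      unfold Cfsg.classInner at h
      rw [if_pos rfl] at h
      field_simp at h
      exact h
    rw [h4, h2] at h1
    have h5 : ∑ y : G, (if p ∣ orderOf y then 0 else F y) =
        ((lam : P → ℂ) 1) ^ 2 * (Nat.card G : ℂ) / (Nat.card P : ℂ) *
          (if χ'' = χ then 1 else 0) := by
      field_simp
      field_simp at h1
      linear_combination h1
    exact h5
  have hω : ∀ (χ'' : Cfsg.IrrCharacter G)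
      (psi'' : Cfsg.IrrCharacter (Subgroup.centralizer (P : Set G))), χ'' ∈ B →
      (∀ (x : P) (c : Subgroup.centralizer (P : Set G)),
        (χ'' : G → ℂ) ((x : G) * (c : G)) = (lam : P → ℂ) x * (psi'' : ↥(Subgroup.centralizer (P : Set G)) → ℂ) c) →
      omega (χ'' : G → ℂ) α = if χ'' = χ then 1 else 0 := by
    intro χ'' psi'' hχ'' hspec''
    unfold omega
    have h1 : ∀ g : G, α g * (χ'' : G → ℂ) g / (χ'' : G → ℂ) 1 = κ / (χ'' : G → ℂ) 1 *
        (if p ∣ orderOf g then 0 else conj ((χ : G → ℂ) g) * (χ'' : G → ℂ) g) := by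
      intro g
      simp only [hα]
      split_ifs <;> ring
    rw [Finset.sum_congr rfl (fun g _ => h1 g), ← Finset.mul_sum, hS χ'' psi'' hχ'' hspec'']
    by_cases h : χ'' = χ
    · subst h
      rw [if_pos rfl, hκ]
      have := irr_one_ne_zero χ''
      field_simp
    · rw [if_neg h]
      ring
  have h1 := hω χ psi hχ hspec
  have h2 := hω χ' psi' hχ' hspec'
  rw [if_pos rfl] at h1
  rw [if_neg (Ne.symm hne)] at h2
  have h3 := memLocalIdeal_omega_sub hMp (IsPBlock.sameBlock hMp hB hχ hχ') hαR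
  rw [h1, h2, sub_zero] at h3
  exact not_memLocalIdeal_one hMp h3

/-- a block of `G = P C_G(P)` has a member over each irreducible character of `P` -/
theorem exists_mem_lam_eq (hM : Cfsg.IsPModular p M) (P : Subgroup G) [Fintype P]
    (hP : IsPGroup p P) (B : Set (Cfsg.IrrCharacter G)) (hB : Cfsg.IsPBlock M B)
    (lam : Cfsg.IrrCharacter G → Cfsg.IrrCharacter P)
    (psi : Cfsg.IrrCharacter G → Cfsg.IrrCharacter (Subgroup.centralizer (P : Set G)))
    (hspec : ∀ (χ : Cfsg.IrrCharacter G) (x : P) (c : Subgroup.centralizer (P : Set G)),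
        (χ : G → ℂ) ((x : G) * (c : G)) = (lam χ : P → ℂ) x * (psi χ : ↥(Subgroup.centralizer (P : Set G)) → ℂ) c)
    (lam0 : Cfsg.IrrCharacter P) : ∃ χ ∈ B, lam χ = lam0 := by
  classical
  by_contra hcon
  push Not at hcon
  have hMp := isPrime_of_isPModular hM
  have hp : p.Prime := Fact.out
  have : Finite (Cfsg.IrrCharacter G) := Cfsg.Agent.Lib.Helper77.irr_finite G
  have : Fintype (Cfsg.IrrCharacter G) := Fintype.ofFinite _
  have hG0 : (Nat.card G : ℂ) ≠ 0 := card_ne_zero
  have hP0 : (Nat.card P : ℂ) ≠ 0 := card_ne_zero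
  have hzero : ∀ x : P, x ≠ 1 → ∑ χ : Cfsg.IrrCharacter G,
      (if χ ∈ B then (χ : G → ℂ) 1 * conj ((χ : G → ℂ) (x : G)) else 0) = 0 := by
    intro x hx
    have hsing : p ∣ orderOf (x : G) := by
      obtain ⟨k, hk⟩ := (IsPGroup.iff_orderOf.mp hP) x
      rw [Subgroup.orderOf_coe, hk]
      have hk0 : k ≠ 0 := by
        rintro rfl
        rw [pow_zero, orderOf_eq_one_iff] at hk
        exact hx hk
      exact dvd_pow_self p hk0
    have h := Cfsg.Agent.Lib.Helper77.blockCoeff_eq_zero_of_singular hM B hB hsing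
    unfold Cfsg.blockCoeff at h
    rw [finsum_mem_eq_sum_ite] at h
    rcases mul_eq_zero.mp h with h | h
    · exact absurd h (inv_ne_zero hG0)
    · exact h
  set Q : ℂ := ∑ x : P, (lam0 : P → ℂ) x * ∑ χ : Cfsg.IrrCharacter G,
    (if χ ∈ B then (χ : G → ℂ) 1 * conj ((χ : G → ℂ) (x : G)) else 0) with hQ
  have hQ1 : Q = (lam0 : P → ℂ) 1 * ∑ χ : Cfsg.IrrCharacter G,
      (if χ ∈ B then (χ : G → ℂ) 1 * conj ((χ : G → ℂ) 1) else 0) := by
    rw [hQ, Finset.sum_eq_single (1 : P)]
    · simp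
    · intro x _ hx
      rw [hzero x hx, mul_zero]
    · intro h
      exact absurd (Finset.mem_univ _) h
  have hQ2 : Q = 0 := by
    rw [hQ]
    simp_rw [Finset.mul_sum]
    rw [Finset.sum_comm]
    apply Finset.sum_eq_zero
    intro χ _
    by_cases hχ : χ ∈ B
    · simp only [if_pos hχ]
      have h1 : ∀ x : P, (lam0 : P → ℂ) x * ((χ : G → ℂ) 1 * conj ((χ : G → ℂ) (x : G))) =
          ((χ : G → ℂ) 1 * conj ((psi χ : ↥(Subgroup.centralizer (P : Set G)) → ℂ) 1)) *
            ((lam0 : P → ℂ) x * conj ((lam χ : P → ℂ) x)) := by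
        intro x
        have h := hspec χ x 1
        simp only [OneMemClass.coe_one, mul_one] at h
        rw [h, map_mul]
        ring
      rw [Finset.sum_congr rfl (fun x _ => h1 x), ← Finset.mul_sum]
      have h2 := Cfsg.Agent.Lib.Helper80.classInner_irr lam0 (lam χ)
      rw [if_neg (Ne.symm (hcon χ hχ))] at h2
      unfold Cfsg.classInner at h2
      rcases mul_eq_zero.mp h2 with h | h
      · exact absurd h (inv_ne_zero hP0)
      · rw [h, mul_zero]
    · simp [hχ]
  obtain ⟨χ₀, hχ₀⟩ := IsPBlock.nonempty hMp hB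
  have hpos : ∑ χ : Cfsg.IrrCharacter G,
      (if χ ∈ B then (χ : G → ℂ) 1 * conj ((χ : G → ℂ) 1) else 0) ≠ 0 := by
    have h1 : ∀ χ : Cfsg.IrrCharacter G,
        (if χ ∈ B then (χ : G → ℂ) 1 * conj ((χ : G → ℂ) 1) else (0 : ℂ)) =
          ((if χ ∈ B then (Cfsg.charDegree (χ : G → ℂ)) ^ 2 else 0 : ℕ) : ℂ) := by
      intro χ
      obtain ⟨hd, -, -⟩ := Cfsg.Agent.Lib.Helper79.irr_charDegree χ.2
      split_ifs
      · rw [hd, Complex.conj_natCast]
        push_cast
        ring
      · simp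
    rw [Finset.sum_congr rfl (fun χ _ => h1 χ), ← Nat.cast_sum]
    have h2 : 0 < ∑ χ : Cfsg.IrrCharacter G,
        (if χ ∈ B then (Cfsg.charDegree (χ : G → ℂ)) ^ 2 else 0) := by
      apply Finset.sum_pos' (fun _ _ => Nat.zero_le _)
      refine ⟨χ₀, Finset.mem_univ _, ?_⟩
      rw [if_pos hχ₀]
      obtain ⟨-, hpos, -⟩ := Cfsg.Agent.Lib.Helper79.irr_charDegree χ₀.2
      positivity
    exact_mod_cast h2.ne'
  rw [hQ2] at hQ1
  rcases mul_eq_zero.mp hQ1.symm with h | h
  · exact irr_one_ne_zero lam0 h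
  · exact hpos h

end Block

end Cfsg.Agent.Lib.Helper16
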