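import Mathlib
import Cfsg.Prelude.Def_Blocks
import Cfsg.Agent.Lib.Helper16.NormalIdem
import Cfsg.Agent.Lib.Helper16.Induced

/-!
# Blocks of a normal subgroup covered by blocks of the group
-/

set_option autoImplicit false

namespace Cfsg.Agent.Lib.Helper16

open Cfsg
open Cfsg.Agent.Lib.Helper75 (conjChar)
open scoped ComplexConjugate

section
variable {G : Type*} [Group G] [Fintype G] (N : Subgroup G) [hN : N.Normal] [Fintype N]
  {M : Ideal Cfsg.AlgInt}

/-- central characters of conjugate characters of a normal subgroup -/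
lemma omega_conjIrr (θ : Cfsg.IrrCharacter N) (g : G) (α : N → ℂ) :
    omega (conjIrr N θ g : N → ℂ) α =
      omega (θ : N → ℂ) (fun n => α (MulAut.conjNormal g n)) := by
  unfold omega
  rw [conjIrr_apply_one]
  apply Fintype.sum_equiv ((MulAut.conjNormal g)⁻¹ : N ≃* N).toEquiv
  intro n
  show α n * (θ : N → ℂ) ((MulAut.conjNormal g)⁻¹ n) / _ =
    α (MulAut.conjNormal g ((MulAut.conjNormal g)⁻¹ n)) *
      (θ : N → ℂ) ((MulAut.conjNormal g)⁻¹ n) / _
  rw [MulAut.apply_inv_self]

lemma isRClass_comp_conjNormal {α : N → ℂ} (hα : IsRClass M α) (g : G) :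
    IsRClass M (fun n => α (MulAut.conjNormal g n)) := by
  refine ⟨?_, fun n => hα.2 _⟩
  intro n h
  show α (MulAut.conjNormal g (h * n * h⁻¹)) = α (MulAut.conjNormal g n)
  rw [map_mul, map_mul, map_inv]
  exact hα.1 _ _

/-- conjugation by `G` preserves blocks of the normal subgroup -/
lemma sameBlock_conjIrr (hM : M.IsPrime) {θ θ' : Cfsg.IrrCharacter N}
    (h : Cfsg.SameBlock M (θ : N → ℂ) (θ' : N → ℂ)) (g : G) :
    Cfsg.SameBlock M (conjIrr N θ g : N → ℂ) (conjIrr N θ' g : N → ℂ) := by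
  intro n
  rw [← omega_classInd (irrCharacter_conj_eq (conjIrr N θ g)),
    ← omega_classInd (irrCharacter_conj_eq (conjIrr N θ' g)), omega_conjIrr, omega_conjIrr]
  exact memLocalIdeal_omega_sub hM h (isRClass_comp_conjNormal N (isRClass_classInd hM n) g)

open scoped Classical in
/-- a sum of idempotents over a union of blocks has local integer values -/
theorem memLocalRing_sum_idem_of_blockClosed (hM : M.IsPrime) :
    ∀ (k : ℕ) (S : Finset (Cfsg.IrrCharacter N)), S.card = k →
      (∀ θ ∈ S, ∀ θ' : Cfsg.IrrCharacter N, Cfsg.SameBlock M (θ : N → ℂ) (θ' : N → ℂ) → θ' ∈ S) →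
      ∀ n : N, MemLocalRing M ((∑ θ ∈ S, idem (θ : N → ℂ)) n) := by
  intro k
  induction k using Nat.strong_induction_on with
  | _ k ih =>
    intro S hk hS n
    have : Fintype (Cfsg.IrrCharacter N) := Fintype.ofFinite _
    rcases Finset.eq_empty_or_nonempty S with h0 | ⟨θ0, hθ0⟩
    · rw [h0, Finset.sum_empty]
      exact memLocalRing_zero hM
    · set S0 : Finset (Cfsg.IrrCharacter N) :=
        S.filter (fun θ => Cfsg.SameBlock M (θ0 : N → ℂ) (θ : N → ℂ)) with hS0
      have hθ0S0 : θ0 ∈ S0 := by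
        rw [hS0, Finset.mem_filter]
        exact ⟨hθ0, mem_blockOf_self hM θ0⟩
      have hsub : S0 ⊆ S := Finset.filter_subset _ _
      have hcard : (S \ S0).card < k := by
        rw [← hk]
        apply Finset.card_lt_card
        refine ⟨Finset.sdiff_subset, ?_⟩
        intro hc
        have := hc hθ0
        rw [Finset.mem_sdiff] at this
        exact this.2 hθ0S0
      have hclosed : ∀ θ ∈ S \ S0, ∀ θ' : Cfsg.IrrCharacter N,
          Cfsg.SameBlock M (θ : N → ℂ) (θ' : N → ℂ) → θ' ∈ S \ S0 := by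
        intro θ hθ θ' hθθ'
        rw [Finset.mem_sdiff] at hθ ⊢
        refine ⟨hS θ hθ.1 θ' hθθ', ?_⟩
        intro hc
        apply hθ.2
        rw [hS0, Finset.mem_filter] at hc ⊢
        exact ⟨hθ.1, sameBlock_trans hM hc.2 (sameBlock_symm hθθ')⟩
      have h1 := ih _ hcard (S \ S0) rfl hclosed n
      have h2 : (∑ θ ∈ S, idem (θ : N → ℂ)) n =
          (∑ θ ∈ S \ S0, idem (θ : N → ℂ)) n + (∑ θ ∈ S0, idem (θ : N → ℂ)) n := by
        rw [← Pi.add_apply, Finset.sum_sdiff hsub]
      have h3 : (∑ θ ∈ S0, idem (θ : N → ℂ)) n =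
          Cfsg.blockCoeff (Cfsg.blockOf M (θ0 : N → ℂ)) n := by
        unfold Cfsg.blockCoeff
        rw [finsum_mem_eq_sum_ite, Finset.sum_apply, Finset.mul_sum]
        have e : S0 = Finset.univ.filter
            (fun θ : Cfsg.IrrCharacter N => θ ∈ Cfsg.blockOf M (θ0 : N → ℂ)) := by
          ext θ
          rw [hS0, Finset.mem_filter, Finset.mem_filter]
          constructor
          · intro h
            exact ⟨Finset.mem_univ _, h.2⟩
          · intro h
            exact ⟨hS θ0 hθ0 θ h.2, h.2⟩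
        rw [e, Finset.sum_filter]
        apply Finset.sum_congr rfl
        intro θ _
        unfold idem
        split_ifs
        · ring
        · ring
      rw [h2, h3]
      exact memLocalRing_add hM h1 ((isRClass_blockCoeff hM ⟨θ0, rfl⟩).2 n)

open scoped Classical in
/-- the irreducible characters of `N` having a `G`-conjugate in `b` -/
noncomputable def blockOrbit (b : Set (Cfsg.IrrCharacter N)) : Finset (Cfsg.IrrCharacter N) :=
  (Set.toFinite {θ : Cfsg.IrrCharacter N | ∃ g : G, conjIrr N θ g ∈ b}).toFinset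

lemma mem_blockOrbit (b : Set (Cfsg.IrrCharacter N)) (θ : Cfsg.IrrCharacter N) :
    θ ∈ blockOrbit (G := G) N b ↔ ∃ g : G, conjIrr N θ g ∈ b := by
  unfold blockOrbit
  rw [Set.Finite.mem_toFinset]
  rfl

lemma blockOrbit_stable (b : Set (Cfsg.IrrCharacter N)) :
    ∀ θ ∈ blockOrbit (G := G) N b, ∀ g : G, conjIrr N θ g ∈ blockOrbit (G := G) N b := by
  intro θ hθ x
  rw [mem_blockOrbit] at hθ ⊢
  obtain ⟨g, hg⟩ := hθ
  refine ⟨g * x⁻¹, ?_⟩
  rw [← conjIrr_mul, inv_mul_cancel_right]
  exact hg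

lemma blockOrbit_closed (hM : M.IsPrime) {b : Set (Cfsg.IrrCharacter N)}
    (hb : Cfsg.IsPBlock M b) :
    ∀ θ ∈ blockOrbit (G := G) N b, ∀ θ' : Cfsg.IrrCharacter N,
      Cfsg.SameBlock M (θ : N → ℂ) (θ' : N → ℂ) → θ' ∈ blockOrbit (G := G) N b := by
  intro θ hθ θ' hθθ'
  rw [mem_blockOrbit] at hθ ⊢
  obtain ⟨g, hg⟩ := hθ
  refine ⟨g, ?_⟩
  rw [IsPBlock.eq_blockOf hM hb hg]
  exact sameBlock_conjIrr N hM hθθ' g

lemma isRClass_normalIdem_blockOrbit (hM : M.IsPrime) {b : Set (Cfsg.IrrCharacter N)}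
    (hb : Cfsg.IsPBlock M b) : IsRClass M (normalIdem N (blockOrbit (G := G) N b)) :=
  isRClass_normalIdem N hM _ (blockOrbit_stable N b)
    (memLocalRing_sum_idem_of_blockClosed N hM _ _ rfl (blockOrbit_closed N hM hb))

/-- **Covering is a property of blocks.** If some member of the block `B` of `G` lies over a
member of the block `b` of the normal subgroup `N`, then every member of `B` does. -/
theorem cover_all (hM : M.IsPrime) {B : Set (Cfsg.IrrCharacter G)} (hB : Cfsg.IsPBlock M B)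
    {b : Set (Cfsg.IrrCharacter N)} (hb : Cfsg.IsPBlock M b) {χ : Cfsg.IrrCharacter G}
    (hχ : χ ∈ B) {θ : Cfsg.IrrCharacter N} (hθ : θ ∈ b)
    (hcon : Cfsg.classInner (fun n : N => (χ : G → ℂ) n) (θ : N → ℂ) ≠ 0)
    {χ' : Cfsg.IrrCharacter G} (hχ' : χ' ∈ B) :
    ∃ θ' ∈ b, Cfsg.classInner (fun n : N => (χ' : G → ℂ) n) (θ' : N → ℂ) ≠ 0 := by
  have hS := blockOrbit_stable (G := G) N b
  have hε := isRClass_normalIdem_blockOrbit (G := G) N hM hb
  have hθS : θ ∈ blockOrbit (G := G) N b := by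
    rw [mem_blockOrbit]
    exact ⟨1, by rw [conjIrr_one]; exact hθ⟩
  have h1 := omega_normalIdem_eq_one N _ hS χ ⟨θ, hθS, hcon⟩
  have h2 := memLocalIdeal_omega_sub hM (IsPBlock.sameBlock hM hB hχ hχ') hε
  rw [h1] at h2
  have h3 : omega (χ' : G → ℂ) (normalIdem N (blockOrbit (G := G) N b)) ≠ 0 := by
    intro h0
    rw [h0, sub_zero] at h2
    exact not_memLocalIdeal_one hM h2
  obtain ⟨θ1, hθ1, hne⟩ := exists_constituent_of_omega_ne_zero N _ _ h3
  rw [mem_blockOrbit] at hθ1
  obtain ⟨g, hg⟩ := hθ1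
  refine ⟨conjIrr N θ1 g, hg, ?_⟩
  have := Cfsg.Agent.Lib.Helper75.classInner_res_conjChar N
    (fun g x => irrCharacter_conj_eq χ' x g) (θ1 : N → ℂ) g
  show Cfsg.classInner (fun n : N => (χ' : G → ℂ) n) (conjChar N (θ1 : N → ℂ) g) ≠ 0
  rw [this]
  exact hne

/-- the values of a class function of `G` on `N`, weighted by an irreducible character of `G`
lying over `θ`, are governed by `θ` -/
theorem sum_res_mul_eq {χ : Cfsg.IrrCharacter G} {θ : Cfsg.IrrCharacter N}
    (h : Cfsg.classInner (fun n : N => (χ : G → ℂ) n) (θ : N → ℂ) ≠ 0) {α : G → ℂ}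
    (hα : Cfsg.IsClassFunction G α) :
    (∑ m : N, α m * (χ : G → ℂ) m) / (χ : G → ℂ) 1 =
      (∑ m : N, α m * (θ : N → ℂ) m) / (θ : N → ℂ) 1 := by
  classical
  have : Fintype (Cfsg.IrrCharacter N) := Fintype.ofFinite _
  have hχc : Cfsg.IsClassFunction G (χ : G → ℂ) := fun g x => irrCharacter_conj_eq χ x g
  have hexp := Cfsg.Agent.Lib.Helper3.classFunction_expansion'
    (Cfsg.Agent.Lib.Helper75.isClassFunction_res N hχc)
  have hone := res_one_eq_sum N hχc
  obtain ⟨a, ha⟩ : ∃ a : Cfsg.IrrCharacter N → ℂ,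
      a = fun θ' : Cfsg.IrrCharacter N =>
        Cfsg.classInner (fun n : N => (χ : G → ℂ) n) (θ' : N → ℂ) := ⟨_, rfl⟩
  have ha' : ∀ θ' : Cfsg.IrrCharacter N,
      Cfsg.classInner (fun n : N => (χ : G → ℂ) n) (θ' : N → ℂ) = a θ' := fun θ' => by rw [ha]
  simp only [ha'] at hexp hone
  set c := (∑ m : N, α m * (θ : N → ℂ) m) / (θ : N → ℂ) 1 with hc
  have hθ1 := irr_one_ne_zero θ
  have key : ∀ θ' : Cfsg.IrrCharacter N, a θ' * ∑ m : N, α m * (θ' : N → ℂ) m =
      a θ' * (θ' : N → ℂ) 1 * c := by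
    intro θ'
    by_cases h0 : a θ' = 0
    · rw [h0]; ring
    · rw [← ha'] at h0
      obtain ⟨g, hg⟩ := Cfsg.Agent.Lib.Helper75.clifford_conj N χ.2 θ.2 θ'.2 h h0
      have e1 : (θ' : N → ℂ) 1 = (θ : N → ℂ) 1 := by
        rw [← hg]; exact conjIrr_apply_one N θ g
      have e2 : ∑ m : N, α m * (θ' : N → ℂ) m = ∑ m : N, α m * (θ : N → ℂ) m := by
        rw [← hg]
        apply Fintype.sum_equiv ((MulAut.conjNormal g)⁻¹ : N ≃* N).toEquiv
        intro m
        show α m * (θ : N → ℂ) ((MulAut.conjNormal g)⁻¹ m) =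
          α (((MulAut.conjNormal g)⁻¹ m : N) : G) * (θ : N → ℂ) ((MulAut.conjNormal g)⁻¹ m)
        congr 1
        rw [MulAut.conjNormal_inv_apply]
        have := hα (m : G) g⁻¹
        rw [inv_inv] at this
        exact this.symm
      rw [e2, e1, hc]
      field_simp
  have h2 : ∀ m : N, (χ : G → ℂ) m = ∑ θ' : Cfsg.IrrCharacter N, a θ' * (θ' : N → ℂ) m := by
    intro m
    have := congrFun hexp m
    simp only [Finset.sum_apply, Pi.smul_apply, smul_eq_mul] at this
    exact this
  have h1 : ∑ m : N, α m * (χ : G → ℂ) m = (χ : G → ℂ) 1 * c := by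
    have e3 : ∑ m : N, α m * (χ : G → ℂ) m =
        ∑ m : N, ∑ θ' : Cfsg.IrrCharacter N, α m * (a θ' * (θ' : N → ℂ) m) := by
      apply Finset.sum_congr rfl
      intro m _
      rw [h2 m, Finset.mul_sum]
    rw [e3, Finset.sum_comm]
    have e4 : ∀ θ' : Cfsg.IrrCharacter N, ∑ m : N, α m * (a θ' * (θ' : N → ℂ) m) =
        a θ' * (θ' : N → ℂ) 1 * c := by
      intro θ'
      rw [← key θ', Finset.mul_sum]
      apply Finset.sum_congr rfl
      intro m _
      ring
    rw [Finset.sum_congr rfl (fun θ' _ => e4 θ'), ← Finset.sum_mul, ← hone]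
  rw [h1, mul_div_cancel_left₀ _ (irr_one_ne_zero χ)]

/-- the central character of an irreducible character of `G` on a class contained in the
normal subgroup `N` is the induced central character of any constituent of its restriction -/
theorem centralChar_eq_inducedCentralChar {χ : Cfsg.IrrCharacter G} {θ : Cfsg.IrrCharacter N}
    (h : Cfsg.classInner (fun n : N => (χ : G → ℂ) n) (θ : N → ℂ) ≠ 0) (n : N) :
    Cfsg.centralChar (χ : G → ℂ) (n : G) = Cfsg.inducedCentralChar N (θ : N → ℂ) (n : G) := by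
  classical
  rw [← omega_classInd (irrCharacter_conj_eq χ), ← omega_resFun_classInd]
  unfold omega
  rw [← Finset.sum_div, ← Finset.sum_div]
  have e : ∑ x : G, classInd (n : G) x * (χ : G → ℂ) x =
      ∑ m : N, classInd (n : G) m * (χ : G → ℂ) m := by
    rw [← Cfsg.Agent.Lib.Helper3.sum_extendByZero_mul N (fun m : N => classInd (n : G) m)
      (χ : G → ℂ)]
    apply Finset.sum_congr rfl
    intro x _
    congr 1
    by_cases hx : x ∈ N
    · rw [Cfsg.Agent.Lib.Helper3.extendByZero_of_mem N _ hx]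
    · rw [Cfsg.Agent.Lib.Helper3.extendByZero_of_not_mem N _ hx]
      unfold classInd
      rw [if_neg]
      intro hc
      obtain ⟨c, hc⟩ := isConj_iff.mp hc
      apply hx
      rw [← hc]
      exact hN.conj_mem _ n.2 c
  rw [e]
  exact sum_res_mul_eq N h (isClassFunction_classInd (n : G))

/-- every irreducible character of `N` lies under some irreducible character of `G` -/
theorem exists_irr_over (θ : Cfsg.IrrCharacter N) :
    ∃ χ : Cfsg.IrrCharacter G, Cfsg.classInner (fun n : N => (χ : G → ℂ) n) (θ : N → ℂ) ≠ 0 := by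
  classical
  by_contra hcon
  push Not at hcon
  have hS := orbitIrr_stable (G := G) N θ
  have h0 : normalIdem N (orbitIrr (G := G) N θ) = 0 := by
    apply eq_zero_of_omega_eq_zero (isClassFunction_normalIdem N _ hS)
    intro χ
    apply omega_normalIdem_eq_zero
    intro θ' hθ'
    rw [classInner_res_of_mem_orbitIrr N (fun g x => irrCharacter_conj_eq χ x g) θ hθ']
    exact hcon χ
  have h1 := congrFun h0 1
  unfold normalIdem at h1
  rw [Cfsg.Agent.Lib.Helper3.extendByZero_of_mem N _ (one_mem N)] at h1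
  simp only [Finset.sum_apply, Pi.zero_apply] at h1
  have h2 : ∀ θ' ∈ orbitIrr (G := G) N θ, idem (θ' : N → ℂ) (⟨1, one_mem N⟩ : N) =
      (θ : N → ℂ) 1 * conj ((θ : N → ℂ) 1) / (Nat.card N : ℂ) := by
    intro θ' hθ'
    unfold orbitIrr at hθ'
    rw [Finset.mem_image] at hθ'
    obtain ⟨x, -, rfl⟩ := hθ'
    unfold idem
    have e : (⟨1, one_mem N⟩ : N) = 1 := rfl
    rw [e, conjIrr_apply_one]
  rw [Finset.sum_congr rfl h2, Finset.sum_const, nsmul_eq_mul] at h1
  have hcard : ((orbitIrr (G := G) N θ).card : ℂ) ≠ 0 := by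
    have hne : (orbitIrr (G := G) N θ).Nonempty := ⟨θ, self_mem_orbitIrr N θ⟩
    exact_mod_cast hne.card_pos.ne'
  have hθ1 := irr_one_ne_zero θ
  have h3 : (θ : N → ℂ) 1 * conj ((θ : N → ℂ) 1) / (Nat.card N : ℂ) ≠ 0 :=
    div_ne_zero (mul_ne_zero hθ1 ((map_ne_zero _).mpr hθ1)) card_ne_zero
  exact (mul_ne_zero hcard h3) h1

/-- every irreducible character of `G` lies over some irreducible character of `N` -/
theorem exists_irr_under (χ : Cfsg.IrrCharacter G) :
    ∃ θ : Cfsg.IrrCharacter N, Cfsg.classInner (fun n : N => (χ : G → ℂ) n) (θ : N → ℂ) ≠ 0 := by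
  classical
  have : Fintype (Cfsg.IrrCharacter N) := Fintype.ofFinite _
  by_contra hcon
  push Not at hcon
  have hχc : Cfsg.IsClassFunction G (χ : G → ℂ) := fun g x => irrCharacter_conj_eq χ x g
  have hone := res_one_eq_sum N hχc
  rw [Finset.sum_eq_zero (fun θ _ => by rw [hcon θ, zero_mul])] at hone
  exact irr_one_ne_zero χ hone

lemma extendByZero_resFun_classInd {g : G} (hg : g ∈ N) :
    Cfsg.extendByZero N (resFun N (classInd g)) = classInd g := by
  classical
  funext x
  by_cases hx : x ∈ N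
  · rw [Cfsg.Agent.Lib.Helper3.extendByZero_of_mem N _ hx]; rfl
  · rw [Cfsg.Agent.Lib.Helper3.extendByZero_of_not_mem N _ hx]
    unfold classInd
    rw [if_neg]
    intro hc
    obtain ⟨c, hc⟩ := isConj_iff.mp hc
    apply hx
    rw [← hc]
    exact hN.conj_mem _ hg c

lemma resFun_classInd_eq_zero {g : G} (hg : g ∉ N) : resFun N (classInd g) = 0 := by
  classical
  funext m
  unfold resFun classInd
  rw [if_neg]
  · rfl
  · intro hc
    obtain ⟨c, hc⟩ := isConj_iff.mp hc
    apply hg
    have e : g = c⁻¹ * (m : G) * c⁻¹⁻¹ := by rw [← hc]; group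
    rw [e]
    exact hN.conj_mem _ m.2 c⁻¹

lemma extendByZero_zero : Cfsg.extendByZero N (0 : N → ℂ) = 0 := by
  funext x
  by_cases hx : x ∈ N
  · rw [Cfsg.Agent.Lib.Helper3.extendByZero_of_mem N _ hx]; rfl
  · rw [Cfsg.Agent.Lib.Helper3.extendByZero_of_not_mem N _ hx]; rfl

/-- **Covering from central characters.** If the central character of `χ ∈ B` agrees modulo the
local ideal, on the classes contained in `N`, with the induced central character of `θ ∈ b`,
then `χ` lies over a member of `b`. -/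
theorem cover_of_congr (hM : M.IsPrime) {b : Set (Cfsg.IrrCharacter N)}
    (hb : Cfsg.IsPBlock M b) (χ : Cfsg.IrrCharacter G) {θ : Cfsg.IrrCharacter N} (hθ : θ ∈ b)
    (h : ∀ n : N, MemLocalIdeal M (Cfsg.centralChar (χ : G → ℂ) (n : G) -
      Cfsg.inducedCentralChar N (θ : N → ℂ) (n : G))) :
    ∃ θ' ∈ b, Cfsg.classInner (fun n : N => (χ : G → ℂ) n) (θ' : N → ℂ) ≠ 0 := by
  classical
  have hS := blockOrbit_stable (G := G) N b
  have hε := isRClass_normalIdem_blockOrbit (G := G) N hM hb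
  have hθS : θ ∈ blockOrbit (G := G) N b := by
    rw [mem_blockOrbit]
    exact ⟨1, by rw [conjIrr_one]; exact hθ⟩
  have hadd : ∀ α β : G → ℂ, omega (θ : N → ℂ) (resFun N (α + β)) -
        omega (χ : G → ℂ) (Cfsg.extendByZero N (resFun N (α + β))) =
      omega (θ : N → ℂ) (resFun N α) - omega (χ : G → ℂ) (Cfsg.extendByZero N (resFun N α)) +
      (omega (θ : N → ℂ) (resFun N β) -
        omega (χ : G → ℂ) (Cfsg.extendByZero N (resFun N β))) := by
    intro α β
    have r1 : resFun N (α + β) = resFun N α + resFun N β := rfl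
    have r2 : Cfsg.extendByZero N (resFun N α + resFun N β) =
        Cfsg.extendByZero N (resFun N α) + Cfsg.extendByZero N (resFun N β) := by
      funext x
      by_cases hx : x ∈ N
      · simp [Cfsg.Agent.Lib.Helper3.extendByZero_of_mem N _ hx]
      · simp [Cfsg.Agent.Lib.Helper3.extendByZero_of_not_mem N _ hx]
    rw [r1, r2, omega_add, omega_add]
    ring
  have hsmul : ∀ (c : ℂ) (α : G → ℂ), omega (θ : N → ℂ) (resFun N (c • α)) -
        omega (χ : G → ℂ) (Cfsg.extendByZero N (resFun N (c • α))) =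
      c * (omega (θ : N → ℂ) (resFun N α) -
        omega (χ : G → ℂ) (Cfsg.extendByZero N (resFun N α))) := by
    intro c α
    have r1 : resFun N (c • α) = c • resFun N α := rfl
    have r2 : Cfsg.extendByZero N (c • resFun N α) = c • Cfsg.extendByZero N (resFun N α) := by
      funext x
      by_cases hx : x ∈ N
      · simp [Cfsg.Agent.Lib.Helper3.extendByZero_of_mem N _ hx]
      · simp [Cfsg.Agent.Lib.Helper3.extendByZero_of_not_mem N _ hx]
    rw [r1, r2, omega_smul, omega_smul]
    ring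
  have hcls : ∀ g : G, MemLocalIdeal M (omega (θ : N → ℂ) (resFun N (classInd g)) -
      omega (χ : G → ℂ) (Cfsg.extendByZero N (resFun N (classInd g)))) := by
    intro g
    by_cases hg : g ∈ N
    · rw [extendByZero_resFun_classInd N hg, omega_resFun_classInd,
        omega_classInd (irrCharacter_conj_eq χ)]
      have h1 := memLocalIdeal_neg (h ⟨g, hg⟩)
      rwa [neg_sub] at h1
    · rw [resFun_classInd_eq_zero N hg, extendByZero_zero, omega_zero, omega_zero, sub_zero]
      exact memLocalIdeal_zero hM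
  have key := memLocalIdeal_of_linear hM (fun α : G → ℂ => omega (θ : N → ℂ) (resFun N α) -
    omega (χ : G → ℂ) (Cfsg.extendByZero N (resFun N α))) hadd hsmul hcls hε
  have e1 : Cfsg.extendByZero N (resFun N (normalIdem N (blockOrbit (G := G) N b))) =
      normalIdem N (blockOrbit (G := G) N b) := by
    funext x
    by_cases hx : x ∈ N
    · rw [Cfsg.Agent.Lib.Helper3.extendByZero_of_mem N _ hx]; rfl
    · rw [Cfsg.Agent.Lib.Helper3.extendByZero_of_not_mem N _ hx]
      unfold normalIdem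
      rw [Cfsg.Agent.Lib.Helper3.extendByZero_of_not_mem N _ hx]
  have e2 : omega (θ : N → ℂ) (resFun N (normalIdem N (blockOrbit (G := G) N b))) = 1 := by
    have e3 : resFun N (normalIdem N (blockOrbit (G := G) N b)) =
        ∑ θ' ∈ blockOrbit (G := G) N b, idem (θ' : N → ℂ) := by
      funext m
      unfold resFun normalIdem
      rw [Cfsg.Agent.Lib.Helper3.extendByZero_coe]
    rw [e3, omega_sum]
    simp_rw [omega_idem]
    rw [Finset.sum_ite_eq', if_pos hθS]
  simp only [e1, e2] at key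
  have h3 : omega (χ : G → ℂ) (normalIdem N (blockOrbit (G := G) N b)) ≠ 0 := by
    intro h0
    rw [h0, sub_zero] at key
    exact not_memLocalIdeal_one hM key
  obtain ⟨θ1, hθ1, hne⟩ := exists_constituent_of_omega_ne_zero N _ _ h3
  rw [mem_blockOrbit] at hθ1
  obtain ⟨g, hg⟩ := hθ1
  refine ⟨conjIrr N θ1 g, hg, ?_⟩
  have := Cfsg.Agent.Lib.Helper75.classInner_res_conjChar N
    (fun g x => irrCharacter_conj_eq χ x g) (θ1 : N → ℂ) g
  show Cfsg.classInner (fun n : N => (χ : G → ℂ) n) (conjChar N (θ1 : N → ℂ) g) ≠ 0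
  rw [this]
  exact hne

/-- if `χ` lies over a member of the block `b` of `N`, its central character on the classes
contained in `N` is congruent to the induced central character of every member of `b` -/
theorem congr_of_cover (hM : M.IsPrime) {b : Set (Cfsg.IrrCharacter N)}
    (hb : Cfsg.IsPBlock M b) (χ : Cfsg.IrrCharacter G) {θ1 : Cfsg.IrrCharacter N} (hθ1 : θ1 ∈ b)
    (h1 : Cfsg.classInner (fun n : N => (χ : G → ℂ) n) (θ1 : N → ℂ) ≠ 0)
    {θ : Cfsg.IrrCharacter N} (hθ : θ ∈ b) (n : N) :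
    MemLocalIdeal M (Cfsg.centralChar (χ : G → ℂ) (n : G) -
      Cfsg.inducedCentralChar N (θ : N → ℂ) (n : G)) := by
  classical
  rw [centralChar_eq_inducedCentralChar N h1 n, ← omega_resFun_classInd, ← omega_resFun_classInd]
  exact memLocalIdeal_omega_sub hM (IsPBlock.sameBlock hM hb hθ1 hθ)
    (isRClass_resFun N (isRClass_classInd hM _))

end

end Cfsg.Agent.Lib.Helper16
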