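import Mathlib
import Cfsg.Prelude.Def_Blocks
import Cfsg.Agent.Lib.Helper16.Induced
import Cfsg.Agent.Lib.Helper84.PCoreBasic
import Cfsg.Agent.S0912
import Cfsg.Agent.S0917

/-!
# Blocks induced from `P C_G(P) ≤ H ≤ N_G(P)`: existence, first main theorem
-/

set_option autoImplicit false

namespace Cfsg.Agent.Lib.Helper16

open Cfsg
open scoped ComplexConjugate

section
variable {G : Type*} [Group G] [Fintype G] {M : Ideal Cfsg.AlgInt}

lemma conv77_eq (a b : G → ℂ) : Cfsg.Agent.Lib.Helper77.conv a b = conv a b := rfl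

lemma omegaF_eq (χ a : G → ℂ) : Cfsg.Agent.Lib.Helper77.omegaF χ a = omega χ a := by
  unfold Cfsg.Agent.Lib.Helper77.omegaF omega
  rw [Finset.sum_div]

/-- a class function with local integer values which is idempotent modulo the local ideal and
all of whose central character values lie in the local ideal has its values in the local
ideal -/
theorem memLocalIdeal_of_idem (hM : M.IsPrime) {u : G → ℂ} (hu : IsRClass M u)
    (hidem : ∀ g : G, MemLocalIdeal M (conv u u g - u g))
    (hω : ∀ χ : Cfsg.IrrCharacter G, MemLocalIdeal M (omega (χ : G → ℂ) u)) (g : G) :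
    MemLocalIdeal M (u g) := by
  refine Cfsg.Agent.Lib.Helper77.locIdl_of_idem_of_omegaF hM hu.1 hu.2 ?_ ?_ g
  · intro g
    exact hidem g
  · intro χ
    rw [omegaF_eq]
    exact hω χ

/-- the block idempotent is idempotent for convolution -/
lemma conv_blockCoeff (B : Set (Cfsg.IrrCharacter G)) :
    conv (Cfsg.blockCoeff B) (Cfsg.blockCoeff B) = Cfsg.blockCoeff B :=
  Cfsg.Agent.Lib.Helper77.conv_blockCoeff_self B

/-- if the Brauer central character of `ξ` is congruent to the central character of `χ`, then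
the block of `ξ` induces the block of `χ` -/
theorem isInducedBlock_of_brauer {p : ℕ} [Fact p.Prime] (hM : Cfsg.IsPModular p M)
    (P H : Subgroup G) (hP : IsPGroup p P) (hPH : P ≤ H)
    (hHN : H ≤ Subgroup.normalizer (P : Set G)) (ξ : Cfsg.IrrCharacter H)
    (χ : Cfsg.IrrCharacter G)
    (h : ∀ g : G, MemLocalIdeal M (Cfsg.brauerCentralChar P H (ξ : H → ℂ) g -
      Cfsg.centralChar (χ : G → ℂ) g)) :
    Cfsg.IsInducedBlock M H (Cfsg.blockOf M (ξ : H → ℂ)) (Cfsg.blockOf M (χ : G → ℂ)) := by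
  classical
  have hMp := isPrime_of_isPModular hM
  refine ⟨⟨ξ, rfl⟩, ⟨χ, rfl⟩, ?_⟩
  intro ξ' hξ' χ' hχ' g
  have h1 : Cfsg.MemLocalIdeal M (Cfsg.inducedCentralChar H (ξ' : H → ℂ) g -
      Cfsg.inducedCentralChar H (ξ : H → ℂ) g) :=
    inducedCentralChar_sub_mem hMp H (irrCharacter_conj_eq ξ') (irrCharacter_conj_eq ξ)
      (sameBlock_symm hξ') g
  have h2 := inducedCentralChar_sub_brauer hM P H hP hPH hHN ξ g
  have h4 : Cfsg.MemLocalIdeal M (Cfsg.centralChar (χ : G → ℂ) g -
      Cfsg.centralChar (χ' : G → ℂ) g) := hχ' g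
  have e : Cfsg.inducedCentralChar H (ξ' : H → ℂ) g - Cfsg.centralChar (χ' : G → ℂ) g =
      (Cfsg.inducedCentralChar H (ξ' : H → ℂ) g - Cfsg.inducedCentralChar H (ξ : H → ℂ) g) +
      (Cfsg.inducedCentralChar H (ξ : H → ℂ) g - Cfsg.brauerCentralChar P H (ξ : H → ℂ) g) +
      (Cfsg.brauerCentralChar P H (ξ : H → ℂ) g - Cfsg.centralChar (χ : G → ℂ) g) +
      (Cfsg.centralChar (χ : G → ℂ) g - Cfsg.centralChar (χ' : G → ℂ) g) := by ring
  rw [e]
  exact memLocalIdeal_add hMp (memLocalIdeal_add hMp (memLocalIdeal_add hMp h1 h2) (h g)) h4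

/-- **Existence of a Brauer correspondent.** If the idempotent of the block `B` does not
vanish modulo the local ideal at some element centralizing the `p`-subgroup `P`, and
`P C_G(P) ≤ H ≤ N_G(P)`, then `B` is induced from a block of `H`. -/
theorem exists_isInducedBlock {p : ℕ} [Fact p.Prime] (hM : Cfsg.IsPModular p M)
    (P H : Subgroup G) [Fintype H] (hP : IsPGroup p P) (hPH : P ≤ H)
    (hCH : Subgroup.centralizer (P : Set G) ≤ H) (hHN : H ≤ Subgroup.normalizer (P : Set G))
    (B : Set (Cfsg.IrrCharacter G)) (hB : Cfsg.IsPBlock M B) (g1 : G)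
    (hg1 : g1 ∈ Subgroup.centralizer (P : Set G))
    (hB1 : ¬ MemLocalIdeal M (Cfsg.blockCoeff B g1)) :
    ∃ ξ : Cfsg.IrrCharacter H, Cfsg.IsInducedBlock M H (Cfsg.blockOf M (ξ : H → ℂ)) B ∧
      ¬ MemLocalIdeal M (omega (ξ : H → ℂ) (brRes P H (Cfsg.blockCoeff B))) := by
  classical
  have hMp := isPrime_of_isPModular hM
  have he := isRClass_blockCoeff hMp hB
  have hu := isRClass_brRes hMp hHN (P := P) (H := H) he
  have hidem : ∀ h : H, MemLocalIdeal M (conv (brRes P H (Cfsg.blockCoeff B))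
      (brRes P H (Cfsg.blockCoeff B)) h - brRes P H (Cfsg.blockCoeff B) h) := by
    intro h
    have := brRes_conv hM hP hCH he he h
    rw [conv_blockCoeff] at this
    have h2 := memLocalIdeal_neg this
    rwa [neg_sub] at h2
  have hex : ∃ ξ : Cfsg.IrrCharacter H,
      ¬ MemLocalIdeal M (omega (ξ : H → ℂ) (brRes P H (Cfsg.blockCoeff B))) := by
    by_contra hcon
    push Not at hcon
    have := memLocalIdeal_of_idem hMp hu hidem hcon ⟨g1, hCH hg1⟩
    apply hB1
    unfold brRes at this
    rwa [if_pos hg1] at this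
  obtain ⟨ξ, hξ⟩ := hex
  obtain ⟨χ, hχ⟩ := exists_irr_brauer hM P H hP hCH hHN ξ
  have hχB : χ ∈ B := by
    by_contra hcon
    have := hχ _ he
    rw [omega_blockCoeff hMp hB χ, if_neg hcon, sub_zero] at this
    exact hξ this
  refine ⟨ξ, ?_, hξ⟩
  rw [IsPBlock.eq_blockOf hMp hB hχB]
  apply isInducedBlock_of_brauer hM P H hP hPH hHN ξ χ
  intro g
  have h3 := hχ (classInd g) (isRClass_classInd hMp g)
  rwa [← brauerCentralChar_eq_omega, omega_classInd (irrCharacter_conj_eq χ)] at h3

/-- a defect group is a `p`-group -/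
lemma isPGroup_of_isDefectGroup {p : ℕ} [Fact p.Prime] {B : Set (Cfsg.IrrCharacter G)}
    {D : Subgroup G} (hD : Cfsg.IsDefectGroup p M B D) : IsPGroup p D := by
  obtain ⟨g0, -, Q, rfl⟩ := hD
  exact Q.isPGroup'.map _

/-- a defect group centralizes an element of a defect class -/
lemma exists_isDefectClass_mem_centralizer {p : ℕ} [Fact p.Prime]
    {B : Set (Cfsg.IrrCharacter G)} {D : Subgroup G} (hD : Cfsg.IsDefectGroup p M B D) :
    ∃ g0 : G, Cfsg.IsDefectClass M B g0 ∧ g0 ∈ Subgroup.centralizer (D : Set G) ∧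
      ∃ Q : Sylow p (Subgroup.centralizer ({g0} : Set G)),
        D = (Q : Subgroup (Subgroup.centralizer ({g0} : Set G))).map
          (Subgroup.centralizer ({g0} : Set G)).subtype := by
  obtain ⟨g0, hg0, Q, rfl⟩ := hD
  refine ⟨g0, hg0, ?_, Q, rfl⟩
  rw [Subgroup.mem_centralizer_iff]
  rintro _ ⟨d, -, rfl⟩
  exact (Subgroup.mem_centralizer_iff.mp d.2 g0 (Set.mem_singleton g0)).symm

/-- **Defect groups of Brauer correspondents.** If `B` has defect group `D` and the block `b`
of `N_G(D)` induces `B`, then `b` has defect group `D`, and `O_p(N_G(D)) = D`. -/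
theorem isDefectGroup_of_isInducedBlock_normalizer {p : ℕ} [Fact p.Prime]
    (hM : Cfsg.IsPModular p M) (B : Set (Cfsg.IrrCharacter G)) (hB : Cfsg.IsPBlock M B)
    (D : Subgroup G) (hD : Cfsg.IsDefectGroup p M B D)
    (b : Set (Cfsg.IrrCharacter (Subgroup.normalizer (D : Set G))))
    (hind : Cfsg.IsInducedBlock M (Subgroup.normalizer (D : Set G)) b B) :
    Cfsg.IsDefectGroup p M b (D.subgroupOf (Subgroup.normalizer (D : Set G))) ∧
      Cfsg.pCore p (Subgroup.normalizer (D : Set G)) =
        D.subgroupOf (Subgroup.normalizer (D : Set G)) := by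
  classical
  have hMp := isPrime_of_isPModular hM
  have hb := hind.1
  have hDN : D ≤ Subgroup.normalizer (D : Set G) := Subgroup.le_normalizer
  have : Fintype (Subgroup.normalizer (D : Set G)) := Fintype.ofFinite _
  obtain ⟨Db, hDb⟩ := Cfsg.Agent.Lib.Helper77.exists_isDefectGroup p hMp b hb
  have h1 : Cfsg.pCore p (Subgroup.normalizer (D : Set G)) ≤ Db :=
    Cfsg.Agent.S0912.result p M hM b hb Db hDb
  have hnorm : (D.subgroupOf (Subgroup.normalizer (D : Set G))).Normal :=
    (Subgroup.normal_subgroupOf_iff_le_normalizer hDN).mpr le_rfl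
  have hpD : IsPGroup p (D.subgroupOf (Subgroup.normalizer (D : Set G))) :=
    (isPGroup_of_isDefectGroup hD).comap_subtype
  have h2 : D.subgroupOf (Subgroup.normalizer (D : Set G)) ≤
      Cfsg.pCore p (Subgroup.normalizer (D : Set G)) :=
    Cfsg.Agent.Lib.Helper84.le_pCore hnorm hpD
  obtain ⟨E, hE, hDbE⟩ := Cfsg.Agent.S0917.result p M hM (Subgroup.normalizer (D : Set G)) b hb B hB
    hind Db hDb
  obtain ⟨x, hx⟩ := Cfsg.Agent.Lib.Helper77.isDefectGroup_conj hM B hB hD hE
  have hcard : Nat.card Db ≤ Nat.card (D.subgroupOf (Subgroup.normalizer (D : Set G))) := by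
    calc Nat.card Db = Nat.card (Db.map (Subgroup.normalizer (D : Set G)).subtype) :=
          (Subgroup.card_map_of_injective (Subgroup.subtype_injective _)).symm
      _ ≤ Nat.card E := Subgroup.card_le_of_le hDbE
      _ = Nat.card D := by rw [hx]; exact Cfsg.Agent.Lib.Helper77.card_map_conj x D
      _ = Nat.card (D.subgroupOf (Subgroup.normalizer (D : Set G))) :=
          (Nat.card_congr (Subgroup.subgroupOfEquivOfLe hDN).toEquiv).symm
  have heq : D.subgroupOf (Subgroup.normalizer (D : Set G)) = Db :=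
    Subgroup.eq_of_le_of_card_ge (h2.trans h1) hcard
  refine ⟨heq ▸ hDb, le_antisymm ?_ h2⟩
  rw [heq]
  exact h1

/-- **Brauer correspondent exists.** A block with defect group `D` is induced from a block of
`N_G(D)`. -/
theorem exists_isInducedBlock_normalizer {p : ℕ} [Fact p.Prime]
    (hM : Cfsg.IsPModular p M) (B : Set (Cfsg.IrrCharacter G)) (hB : Cfsg.IsPBlock M B)
    (D : Subgroup G) (hD : Cfsg.IsDefectGroup p M B D) :
    ∃ b : Set (Cfsg.IrrCharacter (Subgroup.normalizer (D : Set G))),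
      Cfsg.IsInducedBlock M (Subgroup.normalizer (D : Set G)) b B := by
  classical
  have : Fintype (Subgroup.normalizer (D : Set G)) := Fintype.ofFinite _
  obtain ⟨g0, hg0, hg0D, -⟩ := exists_isDefectClass_mem_centralizer hD
  obtain ⟨ξ, hξ, -⟩ := exists_isInducedBlock hM D (Subgroup.normalizer (D : Set G))
    (isPGroup_of_isDefectGroup hD) Subgroup.le_normalizer
    (Subgroup.centralizer_le_normalizer _) le_rfl B hB g0 hg0D hg0.2.1
  exact ⟨_, hξ⟩

end

end Cfsg.Agent.Lib.Helper16
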