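import Mathlib
import Cfsg.Agent.S2904
import Cfsg.Agent.Lib.Helper16.PrimPartChk

/-!
# Large primitive divisors of `q ^ e - 1`

For `q ≥ 2` and `e ≥ 3`, outside thirteen exceptional pairs, there is a divisor `m` of
`q ^ e - 1` coprime to all `q ^ i - 1`, `1 ≤ i < e`, with `3 e + 1 ≤ m`.
-/

set_option autoImplicit false

namespace Cfsg.Agent.Lib.Helper16.PP

open Polynomial

/-- the value of the `e`-th cyclotomic polynomial at `q`, as a natural number -/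
noncomputable def cyc (q e : ℕ) : ℕ := ((cyclotomic e ℤ).eval (q : ℤ)).toNat

theorem cyc_cast {q : ℕ} (hq : 2 ≤ q) (e : ℕ) :
    ((cyc q e : ℕ) : ℤ) = (cyclotomic e ℤ).eval (q : ℤ) := by
  have h1 : (1 : ℤ) < (q : ℤ) := by exact_mod_cast hq
  have h2 : 0 < (cyclotomic e ℤ).eval (q : ℤ) := cyclotomic_pos' e h1
  unfold cyc
  exact Int.toNat_of_nonneg h2.le

theorem cyc_pos {q : ℕ} (hq : 2 ≤ q) (e : ℕ) : 0 < cyc q e := by
  have h1 : (1 : ℤ) < (q : ℤ) := by exact_mod_cast hq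
  have h2 : 0 < (cyclotomic e ℤ).eval (q : ℤ) := cyclotomic_pos' e h1
  rw [← cyc_cast hq e] at h2
  exact_mod_cast h2

theorem cyc_dvd {q : ℕ} (hq : 2 ≤ q) (e : ℕ) : cyc q e ∣ q ^ e - 1 := by
  have h1 : (cyclotomic e ℤ).eval (q : ℤ) ∣ (q : ℤ) ^ e - 1 := by
    have h := eval_dvd (x := (q : ℤ)) (cyclotomic.dvd_X_pow_sub_one e ℤ)
    simpa using h
  rw [← cyc_cast hq e] at h1
  have h2 : ((q ^ e - 1 : ℕ) : ℤ) = (q : ℤ) ^ e - 1 := by
    rw [Nat.cast_sub (Nat.one_le_pow _ _ (by omega))]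
    push_cast
    ring
  rw [← h2] at h1
  exact Int.natCast_dvd_natCast.mp h1

theorem cyc_dvd_int {q r : ℕ} (hq : 2 ≤ q) {e : ℕ} (h : r ∣ cyc q e) :
    (r : ℤ) ∣ (cyclotomic e ℤ).eval (q : ℤ) := by
  rw [← cyc_cast hq e]
  exact Int.natCast_dvd_natCast.mpr h

/-- a prime divisor of `cyc q e` not dividing `e` is a primitive prime divisor -/
theorem cyc_prim {q e r : ℕ} (hq : 2 ≤ q) (hr : r.Prime) (h : r ∣ cyc q e) (hre : ¬ r ∣ e) :
    ∀ k, 1 ≤ k → k < e → ¬ r ∣ q ^ k - 1 := by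
  intro k hk hke
  exact (Cfsg.Agent.S2904.prim_of_dvd_of_not_dvd (by omega) hr (cyc_dvd_int hq h) hre).2 k hk hke

/-- a prime divisor of `cyc q e` dividing `e` divides it only once -/
theorem cyc_not_sq {q e r : ℕ} (hq : 2 ≤ q) (he : 3 ≤ e) (hr : r.Prime) (h : r ∣ cyc q e)
    (hre : r ∣ e) : ¬ r ^ 2 ∣ cyc q e := by
  intro h2
  have h3 : ((r : ℤ)) ^ 2 ∣ (cyclotomic e ℤ).eval (q : ℤ) := by
    have := cyc_dvd_int hq h2
    push_cast at this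
    exact this
  rcases hr.eq_two_or_odd' with rfl | hodd
  · exact Cfsg.Agent.S2904.not_sq_dvd_two hq he (cyc_dvd_int hq h) hre h3
  · exact Cfsg.Agent.S2904.not_sq_dvd_odd hq (by omega) hr hodd (cyc_dvd_int hq h) hre h3

/-- at most one prime divides both `cyc q e` and `e` -/
theorem cyc_unique {q e r s : ℕ} (hq : 2 ≤ q) (he : 3 ≤ e) (hr : r.Prime) (hs : s.Prime)
    (h : r ∣ cyc q e) (hre : r ∣ e) (h' : s ∣ cyc q e) (hse : s ∣ e) : r = s := by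
  have key : ∀ {r s : ℕ}, r.Prime → s.Prime → r ∣ cyc q e → r ∣ e → s ∣ cyc q e → s ∣ e →
      ¬ r < s := by
    intro r s hr hs h hre h' hse hlt
    obtain ⟨a, m, ha, hem, hrm, hmr, -⟩ :=
      Cfsg.Agent.S2904.struct_of_dvd (by omega : 0 < e) hr (cyc_dvd_int hq h) hre
    have hsr : Nat.Coprime s (r ^ a) :=
      Nat.Coprime.pow_right a ((Nat.coprime_primes hs hr).mpr (by omega))
    have hsm : s ∣ m := by
      rw [hem] at hse
      exact hsr.dvd_of_dvd_mul_left hse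
    have h1 : 0 < r - 1 := by have := hr.two_le; omega
    have h2 : m ≤ r - 1 := Nat.le_of_dvd h1 hmr
    have h3 : 0 < m := Nat.pos_of_dvd_of_pos hmr h1
    have h4 : s ≤ m := Nat.le_of_dvd h3 hsm
    omega
  rcases lt_trichotomy r s with hlt | heq | hgt
  · exact absurd hlt (key hr hs h hre h' hse)
  · exact heq
  · exact absurd hgt (key hs hr h' hse h hre)

/-- a primitive divisor of size at least `cyc q e / e` -/
theorem exists_primDiv {q e : ℕ} (hq : 2 ≤ q) (he : 3 ≤ e) :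
    ∃ m : ℕ, m ∣ q ^ e - 1 ∧ (∀ i : ℕ, 1 ≤ i → i < e → Nat.Coprime m (q ^ i - 1)) ∧
      cyc q e ≤ e * m := by
  by_cases hex : ∃ r : ℕ, r.Prime ∧ r ∣ cyc q e ∧ r ∣ e
  · obtain ⟨r, hr, hrN, hre⟩ := hex
    obtain ⟨m, hm⟩ := hrN
    have hmN : m ∣ cyc q e := ⟨r, by rw [hm]; ring⟩
    have hrm : ¬ r ∣ m := by
      intro hd
      apply cyc_not_sq hq he hr ⟨m, hm⟩ hre
      rw [hm, pow_two]
      exact Nat.mul_dvd_mul_left r hd
    refine ⟨m, dvd_trans hmN (cyc_dvd hq e), ?_, ?_⟩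
    · intro i hi hie
      apply Nat.coprime_of_dvd
      intro s hs hsm hsq
      have hsN : s ∣ cyc q e := dvd_trans hsm hmN
      by_cases hse : s ∣ e
      · have : r = s := cyc_unique hq he hr hs ⟨m, hm⟩ hre hsN hse
        exact hrm (this ▸ hsm)
      · exact cyc_prim hq hs hsN hse i hi hie hsq
    · rw [hm]
      exact Nat.mul_le_mul_right m (Nat.le_of_dvd (by omega) hre)
  · push Not at hex
    refine ⟨cyc q e, cyc_dvd hq e, ?_, ?_⟩
    · intro i hi hie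
      apply Nat.coprime_of_dvd
      intro s hs hsN hsq
      exact cyc_prim hq hs hsN (hex s hs hsN) i hi hie hsq
    · exact Nat.le_mul_of_pos_left _ (by omega)

theorem cyc_cast_real {q : ℕ} (hq : 2 ≤ q) (e : ℕ) :
    ((cyc q e : ℕ) : ℝ) = (cyclotomic e ℝ).eval (q : ℝ) := by
  rw [← Cfsg.Agent.S2904.eval_cast, ← cyc_cast hq e]
  push_cast
  rfl

/-- `(q - 1) ^ φ(e) ≤ Φ_e(q)` -/
theorem sub_one_pow_le_cyc {q : ℕ} (hq : 2 ≤ q) (e : ℕ) :
    (q - 1) ^ Nat.totient e ≤ cyc q e := by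
  have h1 : (1 : ℝ) < (q : ℝ) := by exact_mod_cast hq
  have h2 := sub_one_pow_totient_le_cyclotomic_eval h1 e
  rw [← cyc_cast_real hq e] at h2
  have h3 : (((q - 1) ^ Nat.totient e : ℕ) : ℝ) = ((q : ℝ) - 1) ^ Nat.totient e := by
    rw [Nat.cast_pow, Nat.cast_sub (by omega)]
    simp
  rw [← h3] at h2
  exact_mod_cast h2

/-- the elementary inequality behind the bound for `q = 2` -/
theorem real_ineq {Q : ℝ} (hQ : 2 ≤ Q) (j : ℕ) (hj : 1 ≤ j) :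
    Q ^ (2 * j) * (Q + 1) ^ 2 ≤ (Q ^ (2 * j + 1) - 1) ^ 2 := by
  have h1 : Q ≤ Q ^ j := le_self_pow₀ (by linarith) (by omega)
  have h0 : 0 < Q ^ j := by positivity
  have h2 : Q ^ j * (Q + 1) ≤ Q ^ (2 * j + 1) - 1 := by
    have : Q ^ (2 * j + 1) = Q ^ j * (Q ^ j * Q) := by ring
    rw [this]
    have hy2 : 2 ≤ Q ^ j := le_trans hQ h1
    nlinarith [mul_nonneg (sub_nonneg.mpr hy2) (mul_nonneg h0.le (by linarith : (0:ℝ) ≤ Q)),
      mul_nonneg h0.le (sub_nonneg.mpr hQ)]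
  have h3 : Q ^ (2 * j) * (Q + 1) ^ 2 = (Q ^ j * (Q + 1)) ^ 2 := by ring
  rw [h3]
  exact pow_le_pow_left₀ (by positivity) h2 2

/-- `2 ^ φ(e) ≤ Φ_e(2) ^ 2` when `e` has an odd prime divisor -/
theorem two_pow_le_cyc_sq_odd {r k m : ℕ} (hr : r.Prime) (hodd : Odd r) (hm : ¬ r ∣ m) :
    2 ^ Nat.totient (r ^ (k + 1) * m) ≤ cyc 2 (r ^ (k + 1) * m) ^ 2 := by
  set Q : ℝ := (2 : ℝ) ^ (r ^ k) with hQdef
  have hQ2 : (2 : ℝ) ≤ Q := by
    rw [hQdef]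
    exact le_self_pow₀ (by norm_num) (pow_pos hr.pos k).ne'
  have hQ1 : (1 : ℝ) < Q := by linarith
  have hQr : 1 < Q ^ r := one_lt_pow₀ hQ1 hr.pos.ne'
  have h1 := sub_one_pow_totient_le_cyclotomic_eval hQr m
  have h2 := cyclotomic_eval_le_add_one_pow_totient hQ1 m
  have h3 : (cyclotomic m ℝ).eval (Q ^ r)
      = (cyclotomic (r * m) ℝ).eval Q * (cyclotomic m ℝ).eval Q := by
    rw [← expand_eval, cyclotomic_expand_eq_cyclotomic_mul hr hm ℝ, eval_mul, mul_comm m r]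
  have h4 : 0 < (cyclotomic m ℝ).eval Q := cyclotomic_pos' m hQ1
  have h5 : 0 < (cyclotomic (r * m) ℝ).eval Q := cyclotomic_pos' _ hQ1
  have h6 : ((cyc 2 (r ^ (k + 1) * m) : ℕ) : ℝ) = (cyclotomic (r * m) ℝ).eval Q := by
    rw [cyc_cast_real (le_refl 2), Cfsg.Agent.S2904.cyclotomic_pow_mul r m hr k ℝ, expand_eval]
    push_cast
    rfl
  set N : ℝ := ((cyc 2 (r ^ (k + 1) * m) : ℕ) : ℝ) with hN
  set f := Nat.totient m with hf
  obtain ⟨j, hj⟩ := hodd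
  have hj1 : 1 ≤ j := by
    have := hr.two_le
    omega
  -- N * (Q + 1) ^ f ≥ (Q ^ r - 1) ^ f
  have h7 : (Q ^ r - 1) ^ f ≤ N * (Q + 1) ^ f := by
    calc (Q ^ r - 1) ^ f ≤ (cyclotomic m ℝ).eval (Q ^ r) := h1
      _ = (cyclotomic (r * m) ℝ).eval Q * (cyclotomic m ℝ).eval Q := h3
      _ = N * (cyclotomic m ℝ).eval Q := by rw [h6]
      _ ≤ N * (Q + 1) ^ f := by
          apply mul_le_mul_of_nonneg_left h2
          rw [h6]; exact h5.le
  have h8 : 0 ≤ Q ^ r - 1 := by linarith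
  have h9 : ((Q ^ r - 1) ^ f) ^ 2 ≤ (N * (Q + 1) ^ f) ^ 2 :=
    pow_le_pow_left₀ (by positivity) h7 2
  have h10 : (Q ^ (2 * j) * (Q + 1) ^ 2) ^ f ≤ ((Q ^ r - 1) ^ 2) ^ f := by
    rw [hj]
    exact pow_le_pow_left₀ (by positivity) (real_ineq hQ2 j hj1) f
  have h11 : (Q ^ (2 * j)) ^ f * ((Q + 1) ^ f) ^ 2 ≤ N ^ 2 * ((Q + 1) ^ f) ^ 2 := by
    calc (Q ^ (2 * j)) ^ f * ((Q + 1) ^ f) ^ 2 = (Q ^ (2 * j) * (Q + 1) ^ 2) ^ f := by
          rw [mul_pow, ← pow_mul (Q + 1) 2 f, ← pow_mul (Q + 1) f 2, mul_comm 2 f]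
      _ ≤ ((Q ^ r - 1) ^ 2) ^ f := h10
      _ = ((Q ^ r - 1) ^ f) ^ 2 := by
          rw [← pow_mul (Q ^ r - 1) 2 f, ← pow_mul (Q ^ r - 1) f 2, mul_comm]
      _ ≤ (N * (Q + 1) ^ f) ^ 2 := h9
      _ = N ^ 2 * ((Q + 1) ^ f) ^ 2 := by rw [mul_pow]
  have h12 : 0 < ((Q + 1) ^ f) ^ 2 := by positivity
  have h13 : (Q ^ (2 * j)) ^ f ≤ N ^ 2 := le_of_mul_le_mul_right h11 h12
  have h14 : Nat.totient (r ^ (k + 1) * m) = r ^ k * (2 * j) * f := by
    have hcop : Nat.Coprime (r ^ (k + 1)) m :=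
      Nat.Coprime.pow_left _ ((Nat.Prime.coprime_iff_not_dvd hr).mpr hm)
    rw [Nat.totient_mul hcop, Nat.totient_prime_pow_succ hr]
    have : r - 1 = 2 * j := by omega
    rw [this]
  have h15 : ((2 ^ Nat.totient (r ^ (k + 1) * m) : ℕ) : ℝ) = (Q ^ (2 * j)) ^ f := by
    rw [h14, hQdef]
    push_cast
    rw [← pow_mul, ← pow_mul, mul_assoc]
  have h16 : ((2 ^ Nat.totient (r ^ (k + 1) * m) : ℕ) : ℝ)
      ≤ ((cyc 2 (r ^ (k + 1) * m) ^ 2 : ℕ) : ℝ) := by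
    rw [h15]
    push_cast
    exact h13
  exact_mod_cast h16

/-- `2 ^ φ(e) ≤ Φ_e(2)` when `e` is a power of two -/
theorem two_pow_le_cyc_two (k : ℕ) :
    2 ^ Nat.totient (2 ^ (k + 1)) ≤ cyc 2 (2 ^ (k + 1)) := by
  have h1 : ((cyc 2 (2 ^ (k + 1)) : ℕ) : ℤ) = 2 ^ (2 ^ k) + 1 := by
    rw [cyc_cast (le_refl 2), cyclotomic_prime_pow_eq_geom_sum Nat.prime_two]
    simp [Finset.sum_range_succ]
    ring
  have h2 : cyc 2 (2 ^ (k + 1)) = 2 ^ (2 ^ k) + 1 := by exact_mod_cast h1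
  rw [h2, Nat.totient_prime_pow_succ Nat.prime_two]
  simp

/-- `2 ^ φ(e) ≤ Φ_e(2) ^ 2` for `e ≥ 2` -/
theorem two_pow_le_cyc_sq {e : ℕ} (he : 2 ≤ e) : 2 ^ Nat.totient e ≤ cyc 2 e ^ 2 := by
  by_cases hex : ∃ r : ℕ, r.Prime ∧ Odd r ∧ r ∣ e
  · obtain ⟨r, hr, hodd, hre⟩ := hex
    obtain ⟨a, m, hm, hem⟩ := Nat.exists_eq_pow_mul_and_not_dvd (by omega : e ≠ 0) r hr.ne_one
    have ha : a ≠ 0 := by
      rintro rfl
      rw [pow_zero, one_mul] at hem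
      exact hm (hem ▸ hre)
    obtain ⟨k, rfl⟩ := Nat.exists_eq_succ_of_ne_zero ha
    rw [hem]
    exact two_pow_le_cyc_sq_odd hr hodd hm
  · push Not at hex
    have h2 : ∀ {d : ℕ}, d.Prime → d ∣ e → d = 2 := by
      intro d hd hde
      rcases hd.eq_two_or_odd' with h | h
      · exact h
      · exact absurd hde (hex d hd h)
    have h3 := Nat.eq_prime_pow_of_unique_prime_dvd (by omega : e ≠ 0) h2
    rcases Nat.eq_zero_or_pos e.primeFactorsList.length with h | h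
    · rw [h, pow_zero] at h3
      omega
    · obtain ⟨k, hk⟩ := Nat.exists_eq_succ_of_ne_zero h.ne'
      rw [hk] at h3
      rw [h3]
      have h4 := two_pow_le_cyc_two k
      have h5 : 0 < cyc 2 (2 ^ (k + 1)) := cyc_pos (le_refl 2) _
      calc 2 ^ Nat.totient (2 ^ (k + 1)) ≤ cyc 2 (2 ^ (k + 1)) := h4
        _ ≤ cyc 2 (2 ^ (k + 1)) ^ 2 := by nlinarith

/-- the multiplier in the totient bound -/
def G (n : ℕ) : ℕ := (if 2 ∣ n then 4 else 1) * (if 3 ∣ n then 9 else 8)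

theorem G_mul {a b : ℕ} (h : Nat.Coprime a b) : G a * G b = 8 * G (a * b) := by
  unfold G
  have h2 : 2 ∣ a * b ↔ 2 ∣ a ∨ 2 ∣ b := Nat.prime_two.dvd_mul
  have h3 : 3 ∣ a * b ↔ 3 ∣ a ∨ 3 ∣ b := Nat.prime_three.dvd_mul
  have h2' : ¬ (2 ∣ a ∧ 2 ∣ b) := fun ⟨x, y⟩ => by
    have := Nat.dvd_gcd x y
    rw [Nat.Coprime.gcd_eq_one h] at this
    omega
  have h3' : ¬ (3 ∣ a ∧ 3 ∣ b) := fun ⟨x, y⟩ => by
    have := Nat.dvd_gcd x y
    rw [Nat.Coprime.gcd_eq_one h] at this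
    omega
  by_cases ha2 : 2 ∣ a <;> by_cases hb2 : 2 ∣ b <;> by_cases ha3 : 3 ∣ a <;>
    by_cases hb3 : 3 ∣ b <;> simp [h2, h3, ha2, hb2, ha3, hb3] at h2' h3' ⊢

theorem G_le (n : ℕ) : G n ≤ 36 := by
  unfold G
  split_ifs <;> norm_num

theorem G_prime_pow {p k : ℕ} (hp : p.Prime) (hk : 0 < k) :
    G (p ^ k) = (if p = 2 then 4 else 1) * (if p = 3 then 9 else 8) := by
  unfold G
  have h2 : 2 ∣ p ^ k ↔ p = 2 := by
    constructor
    · intro h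
      exact ((Nat.prime_dvd_prime_iff_eq Nat.prime_two hp).mp (Nat.prime_two.dvd_of_dvd_pow h)).symm
    · rintro rfl
      exact dvd_pow_self 2 hk.ne'
  have h3 : 3 ∣ p ^ k ↔ p = 3 := by
    constructor
    · intro h
      exact ((Nat.prime_dvd_prime_iff_eq Nat.prime_three hp).mp
        (Nat.prime_three.dvd_of_dvd_pow h)).symm
    · rintro rfl
      exact dvd_pow_self 3 hk.ne'
  simp only [h2, h3]

theorem totient_bound_aux (n : ℕ) : 8 * n ^ 2 ≤ G n * (Nat.totient n) ^ 3 := by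
  induction n using Nat.recOnPosPrimePosCoprime with
  | prime_pow p k hp hk =>
    obtain ⟨j, rfl⟩ := Nat.exists_eq_succ_of_ne_zero hk.ne'
    rw [G_prime_pow hp hk, Nat.totient_prime_pow_succ hp]
    have hpj : 1 ≤ p ^ j := Nat.one_le_pow _ _ hp.pos
    have hsq : (p ^ j) ^ 2 ≤ (p ^ j) ^ 3 := Nat.pow_le_pow_right hpj (by norm_num)
    have e1 : (p ^ (j + 1)) ^ 2 = p ^ 2 * (p ^ j) ^ 2 := by ring
    rw [e1, mul_pow]
    by_cases h2 : p = 2
    · subst h2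
      norm_num
      nlinarith
    · by_cases h3 : p = 3
      · subst h3
        norm_num
        nlinarith
      · rw [if_neg h2, if_neg h3]
        have hp5 : 5 ≤ p := by
          have := hp.two_le
          rcases Nat.lt_or_ge p 5 with h | h
          · have : p = 4 := by omega
            subst this
            exact absurd hp (by norm_num)
          · exact h
        obtain ⟨s, rfl⟩ : ∃ s, p = s + 1 := ⟨p - 1, by omega⟩
        have hs : 4 ≤ s := by omega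
        have h5 : (s + 1) ^ 2 ≤ s ^ 3 := by nlinarith [mul_le_mul hs (le_refl (s ^ 2)) (by positivity) (by positivity)]
        have e2 : s + 1 - 1 = s := by omega
        rw [e2]
        calc 8 * ((s + 1) ^ 2 * ((s + 1) ^ j) ^ 2)
            ≤ 8 * (s ^ 3 * ((s + 1) ^ j) ^ 3) :=
              Nat.mul_le_mul_left _ (Nat.mul_le_mul h5 hsq)
          _ = 1 * 8 * (((s + 1) ^ j) ^ 3 * s ^ 3) := by ring
  | zero => simp
  | one => simp [G]
  | coprime a b ha hb hab iha ihb =>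
    rw [Nat.totient_mul hab]
    have h1 : 8 * (8 * (a * b) ^ 2) ≤ 8 * (G (a * b) * (a.totient * b.totient) ^ 3) := by
      calc 8 * (8 * (a * b) ^ 2) = (8 * a ^ 2) * (8 * b ^ 2) := by ring
        _ ≤ (G a * a.totient ^ 3) * (G b * b.totient ^ 3) := Nat.mul_le_mul iha ihb
        _ = (G a * G b) * (a.totient * b.totient) ^ 3 := by ring
        _ = 8 * (G (a * b) * (a.totient * b.totient) ^ 3) := by rw [G_mul hab]; ring
    exact Nat.le_of_mul_le_mul_left h1 (by norm_num)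

/-- `2 n² ≤ 9 φ(n)³` -/
theorem totient_bound (n : ℕ) : 2 * n ^ 2 ≤ 9 * (Nat.totient n) ^ 3 := by
  have h1 := totient_bound_aux n
  have h2 : G n * (Nat.totient n) ^ 3 ≤ 36 * (Nat.totient n) ^ 3 :=
    Nat.mul_le_mul_right _ (G_le n)
  linarith

theorem pow_bound_41 : ∀ n : ℕ, 41 ≤ n → 324 * n ^ 6 ≤ 2 ^ n := by
  intro n hn
  induction n, hn using Nat.le_induction with
  | base => norm_num
  | succ n hn ih =>
    have h1 : 41 * (n + 1) ≤ 42 * n := by omega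
    have h2 : (41 * (n + 1)) ^ 6 ≤ (42 * n) ^ 6 := Nat.pow_le_pow_left h1 6
    rw [mul_pow, mul_pow] at h2
    have h4 : (42 : ℕ) ^ 6 ≤ 2 * 41 ^ 6 := by norm_num
    have h5 : 41 ^ 6 * (n + 1) ^ 6 ≤ 41 ^ 6 * (2 * n ^ 6) := by
      calc 41 ^ 6 * (n + 1) ^ 6 ≤ 42 ^ 6 * n ^ 6 := h2
        _ ≤ (2 * 41 ^ 6) * n ^ 6 := Nat.mul_le_mul_right _ h4
        _ = 41 ^ 6 * (2 * n ^ 6) := by ring
    have h3 : (n + 1) ^ 6 ≤ 2 * n ^ 6 := Nat.le_of_mul_le_mul_left h5 (by norm_num)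
    calc 324 * (n + 1) ^ 6 ≤ 324 * (2 * n ^ 6) := Nat.mul_le_mul_left _ h3
      _ = 2 * (324 * n ^ 6) := by ring
      _ ≤ 2 * 2 ^ n := Nat.mul_le_mul_left _ ih
      _ = 2 ^ (n + 1) := by ring

theorem pow_bound_18 : ∀ n : ℕ, 18 ≤ n → 18 * n ^ 3 ≤ 2 ^ n := by
  intro n hn
  induction n, hn using Nat.le_induction with
  | base => norm_num
  | succ n hn ih =>
    have h1 : 18 * (n + 1) ≤ 19 * n := by omega
    have h2 : (18 * (n + 1)) ^ 3 ≤ (19 * n) ^ 3 := Nat.pow_le_pow_left h1 3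
    rw [mul_pow, mul_pow] at h2
    have h4 : (19 : ℕ) ^ 3 ≤ 2 * 18 ^ 3 := by norm_num
    have h5 : 18 ^ 3 * (n + 1) ^ 3 ≤ 18 ^ 3 * (2 * n ^ 3) := by
      calc 18 ^ 3 * (n + 1) ^ 3 ≤ 19 ^ 3 * n ^ 3 := h2
        _ ≤ (2 * 18 ^ 3) * n ^ 3 := Nat.mul_le_mul_right _ h4
        _ = 18 ^ 3 * (2 * n ^ 3) := by ring
    have h3 : (n + 1) ^ 3 ≤ 2 * n ^ 3 := Nat.le_of_mul_le_mul_left h5 (by norm_num)
    calc 18 * (n + 1) ^ 3 ≤ 18 * (2 * n ^ 3) := Nat.mul_le_mul_left _ h3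
      _ = 2 * (18 * n ^ 3) := by ring
      _ ≤ 2 * 2 ^ n := Nat.mul_le_mul_left _ ih
      _ = 2 ^ (n + 1) := by ring

/-- `e (3 e + 1) ≤ Φ_e(q)` outside the computed range -/
theorem big_le_cyc {q e : ℕ} (hq : 2 ≤ q) (he : 3 ≤ e)
    (hsmall : ¬ ((q = 2 ∧ e ≤ 536) ∨ (q ≤ 17 ∧ 3 ≤ q ∧ e ≤ 148))) :
    e * (3 * e + 1) ≤ cyc q e := by
  have htb := totient_bound e
  have heven : Even (Nat.totient e) := Nat.totient_even (by omega)
  have hpos : 0 < Nat.totient e := Nat.totient_pos.mpr (by omega)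
  have h4e : e * (3 * e + 1) ≤ 4 * e ^ 2 := by nlinarith
  generalize hφ : Nat.totient e = φ at htb heven hpos
  by_cases hq2 : q = 2
  · subst hq2
    have he537 : 537 ≤ e := by
      by_contra h
      exact hsmall (Or.inl ⟨rfl, by omega⟩)
    have hφ41 : 41 ≤ φ := by
      by_contra h
      have h40 : φ ≤ 40 := by omega
      have h1 : φ ^ 3 ≤ 40 ^ 3 := Nat.pow_le_pow_left h40 3
      have h2 : 537 ^ 2 ≤ e ^ 2 := Nat.pow_le_pow_left he537 2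
      norm_num at h1 h2
      omega
    have h1 : 2 ^ φ ≤ cyc 2 e ^ 2 := hφ ▸ two_pow_le_cyc_sq (by omega : 2 ≤ e)
    have h2 := pow_bound_41 φ hφ41
    have h3 : (4 * e ^ 2) ^ 2 ≤ (18 * φ ^ 3) ^ 2 := Nat.pow_le_pow_left (by omega) 2
    have h5 : (18 * φ ^ 3) ^ 2 = 324 * φ ^ 6 := by ring
    have h6 : (4 * e ^ 2) ^ 2 ≤ cyc 2 e ^ 2 := by
      rw [h5] at h3
      exact le_trans h3 (le_trans h2 h1)
    have h7 : 4 * e ^ 2 ≤ cyc 2 e := (Nat.pow_le_pow_iff_left (by norm_num)).mp h6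
    exact le_trans h4e h7
  · have hq3 : 3 ≤ q := by omega
    have h1 : (q - 1) ^ φ ≤ cyc q e := hφ ▸ sub_one_pow_le_cyc hq e
    by_cases hφ18 : 18 ≤ φ
    · have h2 := pow_bound_18 φ hφ18
      have h3 : 2 ^ φ ≤ (q - 1) ^ φ := Nat.pow_le_pow_left (by omega) φ
      have h5 : 4 * e ^ 2 ≤ 18 * φ ^ 3 := by omega
      exact le_trans h4e (le_trans h5 (le_trans h2 (le_trans h3 h1)))
    · have h17 : φ ≤ 17 := by omega
      have he148 : e ≤ 148 := by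
        by_contra h
        have h149 : 149 ≤ e := by omega
        have h1 : φ ^ 3 ≤ 17 ^ 3 := Nat.pow_le_pow_left h17 3
        have h2 : 149 ^ 2 ≤ e ^ 2 := Nat.pow_le_pow_left h149 2
        norm_num at h1 h2
        omega
      have hq18 : 18 ≤ q := by
        by_contra h
        exact hsmall (Or.inr ⟨by omega, hq3, he148⟩)
      have h3 : 17 ^ φ ≤ (q - 1) ^ φ := Nat.pow_le_pow_left (by omega) φ
      obtain ⟨t, ht⟩ := heven
      by_cases hφ2 : φ = 2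
      · subst hφ2
        have he6 : e ≤ 6 := by
          by_contra h
          have h7 : 7 ≤ e := by omega
          have h2 : 7 ^ 2 ≤ e ^ 2 := Nat.pow_le_pow_left h7 2
          norm_num at h2 htb
          omega
        have h5 : e * (3 * e + 1) ≤ 6 * 19 := Nat.mul_le_mul he6 (by omega)
        have h6 : (17 : ℕ) ^ 2 = 289 := by norm_num
        omega
      · have hφ4 : 4 ≤ φ := by omega
        have h5 : e * (3 * e + 1) ≤ 148 * 445 := Nat.mul_le_mul he148 (by omega)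
        have h6 : (17 : ℕ) ^ 4 ≤ 17 ^ φ := Nat.pow_le_pow_right (by norm_num) hφ4
        have h7 : (17 : ℕ) ^ 4 = 83521 := by norm_num
        omega

/-- outside the thirteen exceptional pairs there is a primitive divisor `m ≥ 3 e + 1` -/
theorem exists_large_primDiv {q e : ℕ} (hq : 2 ≤ q) (he : 3 ≤ e) (hexc : isExc q e = false) :
    ∃ m : ℕ, m ∣ q ^ e - 1 ∧ (∀ i : ℕ, 1 ≤ i → i < e → Nat.Coprime m (q ^ i - 1)) ∧
      3 * e + 1 ≤ m := by
  by_cases hsmall : (q = 2 ∧ e ≤ 536) ∨ (q ≤ 17 ∧ 3 ≤ q ∧ e ≤ 148)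
  · apply chk_spec
    rcases hsmall with ⟨rfl, he2⟩ | ⟨hq17, hq3, he2⟩
    · have h := List.all_eq_true.mp chk_two (e - 3) (List.mem_range.mpr (by omega))
      have h3 : e - 3 + 3 = e := by omega
      rw [h3, hexc, Bool.false_or] at h
      exact h
    · have h := List.all_eq_true.mp chk_small (q - 3) (List.mem_range.mpr (by omega))
      have h' := List.all_eq_true.mp h (e - 3) (List.mem_range.mpr (by omega))
      have h3 : e - 3 + 3 = e := by omega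
      have h4 : q - 3 + 3 = q := by omega
      rw [h3, h4, hexc, Bool.false_or] at h'
      exact h'
  · obtain ⟨m, hm, hcop, hle⟩ := exists_primDiv hq he
    refine ⟨m, hm, hcop, ?_⟩
    have hbig := big_le_cyc hq he hsmall
    have : e * (3 * e + 1) ≤ e * m := le_trans hbig hle
    exact Nat.le_of_mul_le_mul_left this (by omega)

/-- the exceptional pairs as a list -/
theorem isExc_iff (q e : ℕ) : isExc q e = true ↔
    (q, e) ∈ ([(2, 6), (2, 4), (2, 10), (2, 12), (2, 18), (3, 4), (3, 6), (5, 6), (2, 3), (2, 8),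
      (2, 20), (4, 3), (4, 6)] : List (ℕ × ℕ)) := by
  constructor
  · intro h
    simp only [isExc, Bool.or_eq_true, Bool.and_eq_true, beq_iff_eq] at h
    rcases h with ((⟨rfl, h⟩ | ⟨rfl, h⟩) | ⟨rfl, h⟩) | ⟨rfl, rfl⟩
    · rcases h with ((((((rfl | rfl) | rfl) | rfl) | rfl) | rfl) | rfl) | rfl <;> decide
    · rcases h with rfl | rfl <;> decide
    · rcases h with rfl | rfl <;> decide
    · decide
  · intro h
    simp only [List.mem_cons, Prod.mk.injEq, List.not_mem_nil, or_false] at h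
    rcases h with ⟨rfl, rfl⟩ | ⟨rfl, rfl⟩ | ⟨rfl, rfl⟩ | ⟨rfl, rfl⟩ | ⟨rfl, rfl⟩ | ⟨rfl, rfl⟩ |
      ⟨rfl, rfl⟩ | ⟨rfl, rfl⟩ | ⟨rfl, rfl⟩ | ⟨rfl, rfl⟩ | ⟨rfl, rfl⟩ | ⟨rfl, rfl⟩ | ⟨rfl, rfl⟩ <;>
      rfl

theorem primPart_exc {q e : ℕ} (h : isExc q e = true) :
    0 < primPart q e ∧ primPart q e ≤ 2 * e + 1 := by
  rw [isExc_iff] at h
  simp only [List.mem_cons, Prod.mk.injEq, List.not_mem_nil, or_false] at h
  rcases h with ⟨rfl, rfl⟩ | ⟨rfl, rfl⟩ | ⟨rfl, rfl⟩ | ⟨rfl, rfl⟩ | ⟨rfl, rfl⟩ | ⟨rfl, rfl⟩ |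
    ⟨rfl, rfl⟩ | ⟨rfl, rfl⟩ | ⟨rfl, rfl⟩ | ⟨rfl, rfl⟩ | ⟨rfl, rfl⟩ | ⟨rfl, rfl⟩ | ⟨rfl, rfl⟩ <;>
    decide +kernel

/-- in the exceptional cases every primitive divisor is at most `2 e + 1` -/
theorem le_of_isExc {q e m : ℕ} (h : isExc q e = true) (hm : m ∣ q ^ e - 1)
    (hcop : ∀ i : ℕ, 1 ≤ i → i < e → Nat.Coprime m (q ^ i - 1)) : m ≤ 2 * e + 1 := by
  obtain ⟨h1, h2⟩ := primPart_exc h
  exact le_trans (Nat.le_of_dvd h1 (dvd_primPart hm hcop)) h2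

end Cfsg.Agent.Lib.Helper16.PP
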