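import Mathlib
import Cfsg.Agent.Lib.Helper50.PGroupAux
import Cfsg.Agent.Lib.Helper77.MinMax

/-!
# Sylow subgroups of centralizers and fusion in the centralizer of a `p`-subgroup
-/

set_option autoImplicit false

namespace Cfsg.Agent.Lib.Helper16

section
variable {G : Type*} [Group G] [Finite G]

/-- If `D`, viewed in its normalizer `N`, is a Sylow `p`-subgroup of `C_N(c)`, then `D` is a
Sylow `p`-subgroup of `C_G(c)`. -/
theorem exists_sylow_eq_of_subgroupOf {p : ℕ} [Fact p.Prime] (D : Subgroup G)
    (hD : IsPGroup p D) (c : Subgroup.normalizer (D : Set G))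
    (P0 : Sylow p (Subgroup.centralizer ({c} : Set (Subgroup.normalizer (D : Set G)))))
    (hP0 : D.subgroupOf (Subgroup.normalizer (D : Set G)) =
      (P0 : Subgroup (Subgroup.centralizer ({c} : Set (Subgroup.normalizer (D : Set G))))).map
        (Subgroup.centralizer ({c} : Set (Subgroup.normalizer (D : Set G)))).subtype) :
    ∃ S : Sylow p (Subgroup.centralizer ({(c : G)} : Set G)),
      D = (S : Subgroup (Subgroup.centralizer ({(c : G)} : Set G))).map
        (Subgroup.centralizer ({(c : G)} : Set G)).subtype := by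
  have hDN : D ≤ Subgroup.normalizer (D : Set G) := Subgroup.le_normalizer
  -- `D` centralizes `c`
  have hDc : ∀ r ∈ D, r * (c : G) = (c : G) * r := by
    intro r hr
    have h1 : (⟨r, hDN hr⟩ : Subgroup.normalizer (D : Set G)) ∈
        D.subgroupOf (Subgroup.normalizer (D : Set G)) := by
      rw [Subgroup.mem_subgroupOf]; exact hr
    rw [hP0] at h1
    obtain ⟨y, -, hy⟩ := h1
    have h2 := Subgroup.mem_centralizer_iff.mp y.2 c (Set.mem_singleton c)
    have h3 : (y : Subgroup.normalizer (D : Set G)) = ⟨r, hDN hr⟩ := hy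
    rw [h3] at h2
    exact (congrArg Subtype.val h2).symm
  obtain ⟨S, hS⟩ := Cfsg.Agent.Lib.Helper77.exists_sylow_centralizer_ge p D hD (c : G) hDc
  refine ⟨S, le_antisymm hS ?_⟩
  set L := (S : Subgroup (Subgroup.centralizer ({(c : G)} : Set G))).map
        (Subgroup.centralizer ({(c : G)} : Set G)).subtype with hL
  have hLp : IsPGroup p L := S.isPGroup'.map _
  apply Cfsg.Agent.Lib.Helper50.le_of_isPGroup_of_inf_normalizer D L hLp hS
  apply le_antisymm
  · -- the main point
    intro t ht
    have htL : t ∈ L := ht.1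
    have htN : t ∈ Subgroup.normalizer (D : Set G) := ht.2
    -- the `p`-subgroup `T = L ⊓ N` viewed in `C_N(c)`
    set T := L ⊓ Subgroup.normalizer (D : Set G) with hT
    have hTp : IsPGroup p T := hLp.to_le inf_le_left
    have hTc : ∀ u ∈ T, u * (c : G) = (c : G) * u := by
      intro u hu
      obtain ⟨y, -, hy⟩ := (show u ∈ L from hu.1)
      have h2 := Subgroup.mem_centralizer_iff.mp y.2 (c : G) (Set.mem_singleton _)
      have h3 : (y : G) = u := hy
      rw [h3] at h2
      exact h2.symm
    set T' : Subgroup (Subgroup.normalizer (D : Set G)) :=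
      T.subgroupOf (Subgroup.normalizer (D : Set G)) with hT'
    have hT'p : IsPGroup p T' := hTp.comap_subtype
    set Q : Subgroup (Subgroup.centralizer ({c} : Set (Subgroup.normalizer (D : Set G)))) :=
      T'.subgroupOf (Subgroup.centralizer ({c} : Set (Subgroup.normalizer (D : Set G)))) with hQ
    have hQp : IsPGroup p Q := hT'p.comap_subtype
    have hle : (P0 : Subgroup (Subgroup.centralizer ({c} : Set (Subgroup.normalizer (D : Set G)))))
        ≤ Q := by
      intro y hy
      rw [hQ, Subgroup.mem_subgroupOf, hT', Subgroup.mem_subgroupOf]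
      have h1 : (y : Subgroup.normalizer (D : Set G)) ∈
          D.subgroupOf (Subgroup.normalizer (D : Set G)) := by
        rw [hP0]; exact ⟨y, hy, rfl⟩
      rw [Subgroup.mem_subgroupOf] at h1
      exact ⟨hS h1, hDN h1⟩
    have hQeq := P0.is_maximal' hQp hle
    have htc : (⟨t, htN⟩ : Subgroup.normalizer (D : Set G)) ∈
        Subgroup.centralizer ({c} : Set (Subgroup.normalizer (D : Set G))) := by
      rw [Subgroup.mem_centralizer_iff]
      intro y hy
      rw [Set.mem_singleton_iff] at hy
      subst hy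
      apply Subtype.ext
      exact (hTc t ht).symm
    have htQ : (⟨⟨t, htN⟩, htc⟩ :
        Subgroup.centralizer ({c} : Set (Subgroup.normalizer (D : Set G)))) ∈ Q := by
      rw [hQ, Subgroup.mem_subgroupOf, hT', Subgroup.mem_subgroupOf]
      exact ht
    rw [hQeq] at htQ
    have h4 : (⟨t, htN⟩ : Subgroup.normalizer (D : Set G)) ∈
        D.subgroupOf (Subgroup.normalizer (D : Set G)) := by
      rw [hP0]; exact ⟨_, htQ, rfl⟩
    rw [Subgroup.mem_subgroupOf] at h4
    exact h4
  · exact le_inf hS hDN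

omit [Finite G] in
lemma mem_normalizer_of_map_conj_eq {D : Subgroup G} {n : G}
    (h : D.map (MulAut.conj n).toMonoidHom = D) : n ∈ Subgroup.normalizer (D : Set G) := by
  rw [Subgroup.mem_normalizer_iff]
  intro x
  constructor
  · intro hx
    rw [← h]
    exact ⟨x, hx, rfl⟩
  · intro hx
    rw [← h] at hx
    obtain ⟨d, hd, hdx⟩ := hx
    have h1 : n * d * n⁻¹ = n * x * n⁻¹ := hdx
    have h2 : d = x := by
      have := congrArg (fun y => n⁻¹ * y * n) h1
      simpa [mul_assoc] using this
    rw [← h2]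
    exact hd

/-- If `D` is a Sylow `p`-subgroup of `C_G(c)`, then every conjugate of `c` centralizing `D` is
conjugate to `c` under the normalizer of `D`. -/
theorem exists_normalizer_conj {p : ℕ} [Fact p.Prime] (D : Subgroup G) (c : G)
    (S : Sylow p (Subgroup.centralizer ({c} : Set G)))
    (hS : D = (S : Subgroup (Subgroup.centralizer ({c} : Set G))).map
      (Subgroup.centralizer ({c} : Set G)).subtype) (t : G)
    (ht : t * c * t⁻¹ ∈ Subgroup.centralizer (D : Set G)) :
    ∃ n ∈ Subgroup.normalizer (D : Set G), n * c * n⁻¹ = t * c * t⁻¹ := by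
  classical
  have : Fintype G := Fintype.ofFinite G
  have hDp : IsPGroup p D := by rw [hS]; exact S.isPGroup'.map _
  set D' := D.map (MulAut.conj t⁻¹).toMonoidHom with hD'
  have hD'p : IsPGroup p D' := hDp.map _
  have hD'c : ∀ r ∈ D', r * c = c * r := by
    rintro _ ⟨d, hd, rfl⟩
    have h1 := Subgroup.mem_centralizer_iff.mp ht d hd
    show t⁻¹ * d * t⁻¹⁻¹ * c = c * (t⁻¹ * d * t⁻¹⁻¹)
    rw [inv_inv]
    calc t⁻¹ * d * t * c = t⁻¹ * (d * (t * c * t⁻¹)) * t := by group
      _ = t⁻¹ * ((t * c * t⁻¹) * d) * t := by rw [h1]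
      _ = c * (t⁻¹ * d * t) := by group
  obtain ⟨S', hS'⟩ := Cfsg.Agent.Lib.Helper77.exists_sylow_centralizer_ge p D' hD'p c hD'c
  have hcard : Nat.card ((S' : Subgroup (Subgroup.centralizer ({c} : Set G))).map
      (Subgroup.centralizer ({c} : Set G)).subtype) ≤ Nat.card D' := by
    have h1 : Nat.card D' = Nat.card D := Subgroup.card_map_of_injective (MulAut.conj t⁻¹).injective
    rw [h1, hS]
    exact (Cfsg.Agent.Lib.Helper77.card_sylow_map_eq p c S' S).le
  have hD'eq : D' = (S' : Subgroup (Subgroup.centralizer ({c} : Set G))).map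
      (Subgroup.centralizer ({c} : Set G)).subtype :=
    Subgroup.eq_of_le_of_card_ge hS' hcard
  obtain ⟨k, hk, hkS⟩ := Cfsg.Agent.Lib.Helper77.sylow_centralizer_conj p c S S'
  rw [← hD'eq, ← hS] at hkS
  -- `t⁻¹ D t = k D k⁻¹`
  refine ⟨t * k, ?_, ?_⟩
  · apply mem_normalizer_of_map_conj_eq
    have h2 : (D.map (MulAut.conj k).toMonoidHom).map (MulAut.conj t).toMonoidHom =
        D.map (MulAut.conj (t * k)).toMonoidHom :=
      Cfsg.Agent.Lib.Helper77.map_conj_map_conj k t D
    rw [← h2, ← hkS, hD', Cfsg.Agent.Lib.Helper77.map_conj_map_conj, mul_inv_cancel]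
    ext y
    simp
  · have hkc : k * c = c * k := by
      have := Subgroup.mem_centralizer_iff.mp hk c (Set.mem_singleton c)
      exact this.symm
    calc t * k * c * (t * k)⁻¹ = t * (k * c) * k⁻¹ * t⁻¹ := by group
      _ = t * (c * k) * k⁻¹ * t⁻¹ := by rw [hkc]
      _ = t * c * t⁻¹ := by group

end

end Cfsg.Agent.Lib.Helper16
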