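import Mathlib
import Cfsg.Prelude.Def_Blocks
import Cfsg.Agent.Lib.Helper16.Schur
import Cfsg.Agent.Lib.Helper16.Osima
import Cfsg.Agent.Lib.Helper16.BlockBasic
import Cfsg.Agent.Lib.Helper75.CharDecomp
import Cfsg.Agent.Lib.Helper75.CharInd
import Cfsg.Agent.Lib.Helper77.MinMax
import Cfsg.Agent.Lib.Helper77.MaxPair
import Cfsg.Agent.Lib.Helper77.Degree
import Cfsg.Agent.Lib.Helper78.HeightZero
import Cfsg.Agent.Lib.Helper80.CharOps
import Cfsg.Agent.Lib.Helper81.CharCore

/-!
# Blocks with a given defect group from `p`-separated classes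

The class-sum identity behind Robinson's count of blocks with a given defect group: for the
permutation character `ψ` on the cosets of a Sylow `p`-subgroup,
`∑_χ ⟨ψ, χ⟩ ω_χ(K_j) χ(x_i⁻¹) = |G : S| δ_ij` for `p`-separated classes, and the vanishing
modulo the local ideal of the terms from blocks whose defect groups are not `D`.
-/

set_option autoImplicit false

namespace Cfsg.Agent.Lib.Helper16

open Cfsg
open scoped ComplexConjugate

section
variable {G : Type*} [Group G] [Fintype G] {M : Ideal Cfsg.AlgInt}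

open scoped Classical in
/-- class sum times a group element, traced -/
lemma sum_class_irr_mul (χ : Cfsg.IrrCharacter G) (g z : G) :
    (∑ y : G, if IsConj g y then (χ : G → ℂ) (y * z) else 0) =
      Cfsg.centralChar (χ : G → ℂ) g * (χ : G → ℂ) z := by
  obtain ⟨χ, n, ρ, hρ, rfl⟩ := χ
  show (∑ y : G, if IsConj g y then ρ.character (y * z) else 0) =
    Cfsg.centralChar ρ.character g * ρ.character z
  have h := sum_class_rho_eq ρ hρ g
  have h2 : (∑ y : G, if IsConj g y then ρ.character (y * z) else 0) =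
      LinearMap.trace ℂ _ ((∑ y : G, if IsConj g y then ρ y else 0) * ρ z) := by
    rw [Finset.sum_mul, map_sum]
    apply Finset.sum_congr rfl
    intro y _
    split_ifs
    · rw [← map_mul]; rfl
    · simp
  rw [h2, h, smul_mul_assoc, map_smul]
  have : (LinearMap.id : (Fin n → ℂ) →ₗ[ℂ] (Fin n → ℂ)) * ρ z = ρ z := one_mul _
  rw [this]
  rfl

/-- the induced trivial character vanishes off the conjugates of the subgroup -/
lemma indFun_one_eq_zero_of_not_conj (H : Subgroup G) (g : G) (h : ∀ x : G, x⁻¹ * g * x ∉ H) :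
    Cfsg.indFun H (fun _ : H => (1 : ℂ)) g = 0 := by
  unfold Cfsg.indFun
  rw [Finset.sum_eq_zero, mul_zero]
  intro x _
  exact Cfsg.Agent.Lib.Helper75.extendByZero_not_mem H _ (h x)

/-- the class-sum identity for `p`-separated classes -/
lemma robinson_identity [Fintype (Cfsg.IrrCharacter G)] (p : ℕ) [Fact p.Prime] (S : Sylow p G)
    {r : ℕ} (x : Fin r → G) (hx : ∀ i j : Fin r, IsConj (x i) (x j) → i = j)
    (hsep : ∀ i j : Fin r, ∀ g h : G, IsConj (x i) g → IsConj (x j) h → ∀ k : ℕ, 0 < k →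
      orderOf (g * h⁻¹) ≠ p ^ k) :
    ∃ m : Cfsg.IrrCharacter G → ℕ, ∀ i j : Fin r,
      ∑ χ : Cfsg.IrrCharacter G,
          (m χ : ℂ) * (Cfsg.centralChar (χ : G → ℂ) (x j) * (χ : G → ℂ) (x i)⁻¹) =
        if i = j then ((S : Subgroup G).index : ℂ) else 0 := by
  classical
  set ψ : G → ℂ := Cfsg.indFun (S : Subgroup G) (fun _ => (1 : ℂ)) with hψ
  have hψc : Cfsg.IsCharacter G ψ :=
    Cfsg.Agent.Lib.Helper75.isCharacter_indFun _ Cfsg.Agent.Lib.Helper80.isCharacter_one
  obtain ⟨m, hm, hsum⟩ := Cfsg.Agent.Lib.Helper75.char_eq_sum_irr hψc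
  refine ⟨m, fun i j => ?_⟩
  have hval : ∀ y : G, ψ y = ∑ χ : Cfsg.IrrCharacter G, (m χ : ℂ) * (χ : G → ℂ) y := by
    intro y
    conv_lhs => rw [hsum]
    simp [Finset.sum_apply]
  have h1 : (∑ y : G, if IsConj (x j) y then ψ (y * (x i)⁻¹) else 0) =
      ∑ χ : Cfsg.IrrCharacter G,
        (m χ : ℂ) * (Cfsg.centralChar (χ : G → ℂ) (x j) * (χ : G → ℂ) (x i)⁻¹) := by
    have e : ∀ y : G, (if IsConj (x j) y then ψ (y * (x i)⁻¹) else 0) =
        ∑ χ : Cfsg.IrrCharacter G,
          (m χ : ℂ) * (if IsConj (x j) y then (χ : G → ℂ) (y * (x i)⁻¹) else 0) := by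
      intro y
      rw [hval]
      split_ifs <;> simp
    simp_rw [e]
    rw [Finset.sum_comm]
    apply Finset.sum_congr rfl
    intro χ _
    rw [← Finset.mul_sum, sum_class_irr_mul]
  rw [← h1]
  have hzero : ∀ y : G, IsConj (x j) y → y ≠ x i → ψ (y * (x i)⁻¹) = 0 := by
    intro y hy hne
    apply indFun_one_eq_zero_of_not_conj
    intro t ht
    obtain ⟨k, hk⟩ := (IsPGroup.iff_orderOf.mp S.isPGroup') ⟨_, ht⟩
    rw [Subgroup.orderOf_mk] at hk
    have hk2 : orderOf (y * (x i)⁻¹) = p ^ k := by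
      rw [← hk]
      have := (MulAut.conj t⁻¹).orderOf_eq (y * (x i)⁻¹)
      rw [← this]
      simp [MulAut.conj_apply]
    rcases Nat.eq_zero_or_pos k with h0 | hpos
    · rw [h0, pow_zero, orderOf_eq_one_iff] at hk2
      exact hne (mul_inv_eq_one.mp hk2)
    · exact hsep j i y (x i) hy (IsConj.refl _) k hpos hk2
  split_ifs with hij
  · subst hij
    rw [Finset.sum_eq_single (x i)]
    · rw [if_pos (IsConj.refl _), mul_inv_cancel, hψ, Cfsg.Agent.Lib.Helper75.indFun_one]
      simp
    · intro y _ hne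
      split_ifs with hc
      · exact hzero y hc hne
      · rfl
    · intro h; exact absurd (Finset.mem_univ _) h
  · apply Finset.sum_eq_zero
    intro y _
    split_ifs with hc
    · apply hzero y hc
      rintro rfl
      exact hij (hx j i hc).symm
    · rfl

/-- a ratio of natural numbers with the same `p`-part is a local integer -/
lemma memLocalRing_natCast_div {p : ℕ} [Fact p.Prime] (hM : Cfsg.IsPModular p M) {c d : ℕ}
    (hc : c ≠ 0) (hd : d ≠ 0) (h : c.factorization p = d.factorization p) :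
    MemLocalRing M ((c : ℂ) * (d : ℂ)⁻¹) := by
  have hP := isPrime_of_isPModular hM
  have hp := (Fact.out : p.Prime)
  have e1 := Nat.ordProj_mul_ordCompl_eq_self d p
  have e2 := Nat.ordProj_mul_ordCompl_eq_self c p
  have n1 : ¬ p ∣ d / p ^ d.factorization p := Nat.not_dvd_ordCompl hp hd
  rw [h] at e2
  obtain ⟨d', hd'⟩ : ∃ d', d' = d / p ^ d.factorization p := ⟨_, rfl⟩
  obtain ⟨c', hc'⟩ : ∃ c', c' = c / p ^ d.factorization p := ⟨_, rfl⟩
  rw [← hd'] at e1 n1
  rw [← hc'] at e2
  obtain ⟨t, ht⟩ : ∃ t, t = d.factorization p := ⟨_, rfl⟩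
  rw [← ht] at e1 e2
  have hp0 : (p : ℂ) ≠ 0 := by exact_mod_cast hp.ne_zero
  have hd0 : (d' : ℂ) ≠ 0 := by
    intro h0
    have : d' = 0 := by exact_mod_cast h0
    rw [this] at n1; exact n1 (dvd_zero p)
  have e : (c : ℂ) * (d : ℂ)⁻¹ = (c' : ℂ) * (d' : ℂ)⁻¹ := by
    rw [← e1, ← e2]
    push_cast
    field_simp
  rw [e]
  exact memLocalRing_mul hP (memLocalRing_natCast hP c') (memLocalRing_inv_natCast hM n1)

/-- an irreducible character whose degree has larger `p`-part than the class size of `z`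
vanishes at `z` modulo the local ideal -/
lemma memLocalIdeal_irr_of_factorization_lt {p : ℕ} [Fact p.Prime] (hM : Cfsg.IsPModular p M)
    (χ : Cfsg.IrrCharacter G) (z : G)
    (h : ((Subgroup.centralizer ({z} : Set G)).index).factorization p <
      (Cfsg.charDegree (χ : G → ℂ)).factorization p) :
    MemLocalIdeal M ((χ : G → ℂ) z) := by
  have hP := isPrime_of_isPModular hM
  have hp := (Fact.out : p.Prime)
  obtain ⟨h1, hpos, hdvd⟩ := Cfsg.Agent.Lib.Helper79.irr_charDegree χ.2
  have hidx0 : (Subgroup.centralizer ({z} : Set G)).index ≠ 0 := Subgroup.index_ne_zero_of_finite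
  obtain ⟨d, hd⟩ : ∃ d, d = Cfsg.charDegree (χ : G → ℂ) := ⟨_, rfl⟩
  obtain ⟨c, hc⟩ : ∃ c, c = (Subgroup.centralizer ({z} : Set G)).index := ⟨_, rfl⟩
  rw [← hd, ← hc] at h
  rw [← hd] at h1 hpos
  rw [← hc] at hidx0
  have e2 := Nat.ordProj_mul_ordCompl_eq_self c p
  have n2 : ¬ p ∣ c / p ^ c.factorization p := Nat.not_dvd_ordCompl hp hidx0
  have hdvd2 : p ^ (c.factorization p + 1) ∣ d :=
    (Nat.pow_dvd_pow p h).trans (Nat.ordProj_dvd d p)
  obtain ⟨d'', hd''⟩ := hdvd2
  obtain ⟨c', hc'⟩ : ∃ c', c' = c / p ^ c.factorization p := ⟨_, rfl⟩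
  rw [← hc'] at e2 n2
  obtain ⟨t, ht⟩ : ∃ t, t = c.factorization p := ⟨_, rfl⟩
  rw [← ht] at e2 hd''
  have hp0 : (p : ℂ) ≠ 0 := by exact_mod_cast hp.ne_zero
  have hc0 : (c' : ℂ) ≠ 0 := by
    intro h0
    have : c' = 0 := by exact_mod_cast h0
    rw [this] at n2; exact n2 (dvd_zero p)
  have hd0 : (d : ℂ) ≠ 0 := by exact_mod_cast hpos.ne'
  have hd''0 : (d'' : ℂ) ≠ 0 := by
    intro h0
    have : d'' = 0 := by exact_mod_cast h0
    rw [this, mul_zero] at hd''
    exact hpos.ne' hd''
  have hcc : (χ : G → ℂ) z =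
      Cfsg.centralChar (χ : G → ℂ) z * ((p : ℂ) * ((d'' : ℂ) * (c' : ℂ)⁻¹)) := by
    unfold Cfsg.centralChar
    rw [h1, ← hc, hd'', ← e2]
    push_cast
    field_simp
    ring
  rw [hcc]
  apply memLocalIdeal_mul_left hP (memLocalRing_centralChar hP χ z)
  apply memLocalIdeal_mul_right hP ((memLocalIdeal_natCast_iff hM p).mpr dvd_rfl)
  exact memLocalRing_mul hP (memLocalRing_natCast hP d'') (memLocalRing_inv_natCast hM n2)

lemma centralizer_singleton_inv (g : G) :
    Subgroup.centralizer ({g⁻¹} : Set G) = Subgroup.centralizer ({g} : Set G) := by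
  ext y
  simp only [Subgroup.mem_centralizer_iff, Set.mem_singleton_iff, forall_eq]
  constructor
  · intro h
    calc g * y = g * (y * g⁻¹) * g := by group
      _ = g * (g⁻¹ * y) * g := by rw [h]
      _ = y * g := by group
  · intro h
    calc g⁻¹ * y = g⁻¹ * (y * g) * g⁻¹ := by group
      _ = g⁻¹ * (g * y) * g⁻¹ := by rw [h]
      _ = y * g⁻¹ := by group

/-- the order of the image of a Sylow subgroup of a centralizer -/
lemma card_sylow_centralizer_map {p : ℕ} [Fact p.Prime] (g : G)
    (P : Sylow p (Subgroup.centralizer ({g} : Set G))) :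
    Nat.card ((P : Subgroup (Subgroup.centralizer ({g} : Set G))).map
      (Subgroup.centralizer ({g} : Set G)).subtype) =
      p ^ (Nat.card (Subgroup.centralizer ({g} : Set G))).factorization p := by
  rw [Subgroup.card_map_of_injective (Subgroup.subtype_injective _), P.card_eq_multiplicity]

lemma factorization_card_eq_centralizer (p : ℕ) (g : G) :
    (Nat.card G).factorization p =
      (Nat.card (Subgroup.centralizer ({g} : Set G))).factorization p +
        ((Subgroup.centralizer ({g} : Set G)).index).factorization p := by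
  have hidx : Nat.card (Subgroup.centralizer ({g} : Set G)) *
      (Subgroup.centralizer ({g} : Set G)).index = Nat.card G := Subgroup.card_mul_index _
  rw [← hidx, Nat.factorization_mul Nat.card_pos.ne' Subgroup.index_ne_zero_of_finite]
  rfl

/-- terms from blocks whose defect groups are not `D` vanish modulo the local ideal -/
lemma robinson_vanish {p : ℕ} [Fact p.Prime] (hM : Cfsg.IsPModular p M) (D : Subgroup G)
    {r : ℕ} (x : Fin r → G)
    (hD : ∀ i : Fin r, ∃ S : Sylow p ↥(Subgroup.centralizer ({x i} : Set G)),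
      (S : Subgroup ↥(Subgroup.centralizer ({x i} : Set G))).map
        (Subgroup.centralizer ({x i} : Set G)).subtype = D)
    (χ : Cfsg.IrrCharacter G)
    (hχ : ¬ Cfsg.IsDefectGroup p M (Cfsg.blockOf M (χ : G → ℂ)) D) (i j : Fin r) :
    MemLocalIdeal M (Cfsg.centralChar (χ : G → ℂ) (x j) * (χ : G → ℂ) (x i)⁻¹) := by
  classical
  have hP := isPrime_of_isPModular hM
  have hp := (Fact.out : p.Prime)
  set B := Cfsg.blockOf M (χ : G → ℂ) with hBdef
  have hB : Cfsg.IsPBlock M B := ⟨χ, rfl⟩
  have hχB : χ ∈ B := mem_blockOf_self hP χ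
  by_cases hj : MemLocalIdeal M (Cfsg.centralChar (χ : G → ℂ) (x j))
  · exact memLocalIdeal_mul_right hP hj
      (memLocalRing_of_isIntegral hP (Cfsg.Agent.Lib.Helper77.isIntegral_irr_apply χ _))
  · apply memLocalIdeal_mul_left hP (memLocalRing_centralChar hP χ (x j))
    obtain ⟨g₀, hg₀⟩ := Cfsg.Agent.Lib.Helper77.exists_isDefectClass hP B hB
    obtain ⟨P₀⟩ : Nonempty (Sylow p (Subgroup.centralizer ({g₀} : Set G))) := inferInstance
    obtain ⟨c, Q, hQ⟩ := Cfsg.Agent.Lib.Helper77.minmax_b hM B hB g₀ hg₀ P₀ (x j) ⟨χ, hχB, hj⟩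
    obtain ⟨DB, hDB⟩ : ∃ DB : Subgroup G, DB = (P₀ : Subgroup _).map
      (Subgroup.centralizer ({g₀} : Set G)).subtype := ⟨_, rfl⟩
    rw [← hDB] at hQ
    have hDBdef : Cfsg.IsDefectGroup p M B DB := ⟨g₀, hg₀, P₀, hDB⟩
    have hcardDB := Cfsg.Agent.Lib.Helper77.card_isDefectGroup hM B hB DB hDBdef
    have hcardQ := card_sylow_centralizer_map (x j) Q
    have hcardc : Nat.card (DB.map (MulAut.conj c).toMonoidHom) = Nat.card DB :=
      Subgroup.card_map_of_injective (MulAut.conj c).injective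
    have hle : Cfsg.blockDefect p B ≤
        (Nat.card (Subgroup.centralizer ({x j} : Set G))).factorization p := by
      have := Subgroup.card_le_of_le hQ
      rw [hcardc, hcardDB, hcardQ] at this
      exact (Nat.pow_le_pow_iff_right hp.one_lt).mp this
    have hlt : Cfsg.blockDefect p B <
        (Nat.card (Subgroup.centralizer ({x j} : Set G))).factorization p := by
      rcases hle.lt_or_eq with h | h
      · exact h
      · exfalso
        apply hχ
        have heq : DB.map (MulAut.conj c).toMonoidHom =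
            (Q : Subgroup _).map (Subgroup.centralizer ({x j} : Set G)).subtype := by
          apply Subgroup.eq_of_le_of_card_ge hQ
          rw [hcardc, hcardDB, hcardQ, h]
        have hdg : Cfsg.IsDefectGroup p M B
            ((Q : Subgroup _).map (Subgroup.centralizer ({x j} : Set G)).subtype) := by
          rw [← heq]
          exact Cfsg.Agent.Lib.Helper77.isDefectGroup_map_conj hDBdef c
        obtain ⟨Sj, hSj⟩ := hD j
        obtain ⟨c', -, hc'⟩ := Cfsg.Agent.Lib.Helper77.sylow_centralizer_conj p (x j) Q Sj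
        rw [← hSj, hc']
        exact Cfsg.Agent.Lib.Helper77.isDefectGroup_map_conj hdg c'
    apply memLocalIdeal_irr_of_factorization_lt hM
    rw [centralizer_singleton_inv]
    have hcardi : (Nat.card (Subgroup.centralizer ({x i} : Set G))).factorization p =
        (Nat.card (Subgroup.centralizer ({x j} : Set G))).factorization p := by
      obtain ⟨Si, hSi⟩ := hD i
      obtain ⟨Sj, hSj⟩ := hD j
      have h1 := card_sylow_centralizer_map (x i) Si
      have h2 := card_sylow_centralizer_map (x j) Sj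
      rw [hSi] at h1
      rw [hSj] at h2
      exact Nat.pow_right_injective hp.two_le (h1.symm.trans h2)
    have hfac := factorization_card_eq_centralizer p (x i)
    have hmem : (Cfsg.charDegree (χ : G → ℂ)).factorization p ∈
        ((fun χ : Cfsg.IrrCharacter G => (Cfsg.charDegree (χ : G → ℂ)).factorization p) '' B) :=
      ⟨χ, hχB, rfl⟩
    have hsInf := Nat.sInf_le hmem
    unfold Cfsg.blockDefect at hlt
    omega

end

end Cfsg.Agent.Lib.Helper16
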